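import Cfsg.Agent.Lib.UnitMax.Geom
import Cfsg.Agent.Lib.UnitTwoPrime.Tensor

/-!
The cases for maximal subgroups of `SU_9(q)`.
-/

set_option autoImplicit false

namespace Cfsg.Agent.Lib.UnitNine

open Cfsg.Geo
open Cfsg.Agent.Lib.UnitPrimeDim (omegaU)
open scoped MatrixGroups

variable {F : Type*} [Field F] [Fintype F]

/-- The possibilities for a maximal subgroup of `SU_9(q)`. -/
def Cases (q : ℕ) (H : Subgroup (Matrix.GeneralLinearGroup (Fin 9) F)) : Prop :=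
  (∃ W : Submodule F (Fin 9 → F), W ≠ ⊥ ∧ IsTotallySingularFor (Cfsg.hermForm 9 F q) W ∧
    H = subspaceStabilizer W ⊓ omegaU 9 F q) ∨
  (∃ W : Submodule F (Fin 9 → F), W ≠ ⊥ ∧ IsNondegenerateOn (Cfsg.hermForm 9 F q) W ∧
    2 * Module.finrank F W < 9 ∧ H = subspaceStabilizer W ⊓ omegaU 9 F q) ∨
  (∃ D : Fin 9 → Submodule F (Fin 9 → F), IsNondegenerateMDecomposition (Cfsg.hermForm 9 F q) 1 D ∧
    H = decompositionStabilizer D ⊓ omegaU 9 F q) ∨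
  (∃ D : Fin 3 → Submodule F (Fin 9 → F), IsNondegenerateMDecomposition (Cfsg.hermForm 9 F q) 3 D ∧
    H = decompositionStabilizer D ⊓ omegaU 9 F q) ∨
  (∃ K : Subalgebra F (Matrix (Fin 9) (Fin 9) F), IsFieldSubalgebra 3 K ∧
    IsAdjointClosedFor (Cfsg.hermForm 9 F q) K ∧ H = subalgebraNormalizer K ⊓ omegaU 9 F q) ∨
  (∃ (F₀ : Subfield F) (r : ℕ) (P : Matrix.GeneralLinearGroup (Fin 9) F), r.Prime ∧ Odd r ∧
    Fintype.card F = Nat.card F₀ ^ r ∧ IsFormRationalStructure (Cfsg.hermForm 9 F q) F₀ 1 P ∧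
    H = subfieldSubgroup F₀ P ⊓ omegaU 9 F q) ∨
  (Odd q ∧ ∃ (F₀ : Subfield F) (P : Matrix.GeneralLinearGroup (Fin 9) F), Fintype.card F = Nat.card F₀ ^ 2 ∧
    IsFormRationalStructure (Cfsg.hermForm 9 F q) F₀ 1 P ∧ H = subfieldSubgroup F₀ P ⊓ omegaU 9 F q) ∨
  (∃ (p : ℕ) (R : Subgroup (Matrix.GeneralLinearGroup (Fin 9) F)), p.Prime ∧ q = p ∧ p % 3 = 2 ∧
    IsSymplecticTypeGroup 3 R ∧ ActsAbsolutelyIrreducibly (matrixSet R) ∧
    R ≤ similarityGroup (Cfsg.hermForm 9 F q) ∧ Nat.card R = 243 ∧ Nat.card (Subgroup.center R) = 3 ∧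
    H = subgroupNormalizer R ⊓ omegaU 9 F q) ∨
  (3 ≤ q ∧ ∃ (e : Fin 9 ≃ (Fin 2 → Fin 3)) (P : Matrix.GeneralLinearGroup (Fin 9) F)
    (f₁ : (Fin 3 → F) → (Fin 3 → F) → F), IsUnitaryFormPow q f₁ ∧
    IsTensorPowerFormStructure (fun x : F => x ^ q) (Cfsg.hermForm 9 F q) f₁ e P ∧
    H = tensorWreathSubgroup 3 2 e P ⊓ omegaU 9 F q) ∨
  InUnitaryResidualClass H

end Cfsg.Agent.Lib.UnitNine
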