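import Mathlib
import Cfsg.Agent.Lib.Classical.HermForm
import Cfsg.Agent.Lib.PGroups.SmallPerm

/-!
The group `GU₃(2)`: conjugates of the diagonal matrix `diag(1, w, w²)` commute with it up to scalars, and the
group is solvable.
-/

set_option autoImplicit false
set_option linter.unusedSectionVars false
set_option linter.unusedSimpArgs false
set_option linter.style.haveILetI false

namespace Cfsg.Agent.Lib.UnitNine.GUThreeFour

open Matrix
open scoped MatrixGroups
open Cfsg.Agent.Lib.Classical (conjHom conjHom_apply mem_GU_iff)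

variable {F : Type*} [Field F] [Fintype F]

local notation "M3" => Matrix (Fin 3) (Fin 3) F
local notation "G3" => GL (Fin 3) F
local notation "U3" => Cfsg.GU 3 F 2

theorem pow_three (hF : Fintype.card F = 4) {x : F} (hx : x ≠ 0) : x ^ 3 = 1 := by
  simpa [hF] using FiniteField.pow_card_sub_one_eq_one x hx

theorem two_eq_zero (hF : Fintype.card F = 4) : (1 : F) + 1 = 0 := by
  have h : ((Fintype.card F : ℕ) : F) = 0 := FiniteField.cast_card_eq_zero F
  rw [hF] at h
  have h22 : ((1 : F) + 1) * (1 + 1) = 0 := by push_cast at h; linear_combination h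
  exact (mul_eq_zero.mp h22).elim id id

/-- A cube root of unity other than one. -/
theorem exists_root (hF : Fintype.card F = 4) : ∃ w : F, IsPrimitiveRoot w 3 := by
  classical
  haveI := Fact.mk Nat.prime_three
  obtain ⟨u, hu⟩ := exists_prime_orderOf_dvd_card' 3 (G := Fˣ)
    (by rw [Nat.card_eq_fintype_card, Fintype.card_units, hF])
  exact ⟨u, IsPrimitiveRoot.coe_units_iff.2 (hu ▸ IsPrimitiveRoot.orderOf u)⟩

theorem root_sum {w : F} (hw : IsPrimitiveRoot w 3) : 1 + w + w ^ 2 = 0 := by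
  have h := hw.geom_sum_eq_zero (by norm_num)
  simpa [Finset.sum_range_succ] using h

variable (hF : Fintype.card F = 2 ^ 2)
include hF

theorem row_orth {a : G3} (ha : a ∈ U3) (i j : Fin 3) :
    ∑ k, (a : M3) i k ^ 2 * (a : M3) j k = if i = j then 1 else 0 := by
  have h := mul_eq_one_comm.1 ((mem_GU_iff hF a).1 ha)
  have h' := congrFun (congrFun h i) j
  simpa [Matrix.mul_apply, Matrix.one_apply, conjHom_apply] using h'

theorem inv_apply {a : G3} (ha : a ∈ U3) (i j : Fin 3) :
    ((a⁻¹ : G3) : M3) i j = (a : M3) j i ^ 2 := by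
  have h := mul_eq_one_comm.1 ((mem_GU_iff hF a).1 ha)
  have h' : ((a : M3).map (conjHom hF))ᵀ = ((a⁻¹ : G3) : M3) := by
    have h2 := congrArg Matrix.transpose h
    rw [Matrix.transpose_mul, Matrix.transpose_transpose, Matrix.transpose_one] at h2
    calc ((a : M3).map (conjHom hF))ᵀ = ((a⁻¹ : G3) : M3) * ((a : M3) * ((a : M3).map (conjHom hF))ᵀ) := by
          rw [← mul_assoc, Units.inv_mul, one_mul]
      _ = _ := by rw [h2, mul_one]
  rw [← h']
  simp [conjHom_apply]

theorem term {x : F} (hx : x ≠ 0) : x ^ 2 * x = 1 := by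
  rw [← pow_succ]; exact pow_three (by simpa using hF) hx

/-- A row has one or three non-zero entries. -/
theorem row_cases {a : G3} (ha : a ∈ U3) (i : Fin 3) :
    (∀ k, (a : M3) i k ≠ 0) ∨ ∀ j k, (a : M3) i j ≠ 0 → (a : M3) i k ≠ 0 → j = k := by
  have h := row_orth hF ha i i
  rw [if_pos rfl, Fin.sum_univ_three] at h
  have h2 := two_eq_zero (F := F) (by simpa using hF)
  have t := fun k => term hF (x := (a : M3) i k)
  by_cases h0 : (a : M3) i 0 = 0 <;> by_cases h1 : (a : M3) i 1 = 0 <;> by_cases h3 : (a : M3) i 2 = 0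
  all_goals
    first
    | (left; intro k; fin_cases k <;> assumption)
    | (right
       intro j k hj hk
       fin_cases j <;> fin_cases k <;> simp_all)

/-- Two rows with disjoint or full supports. -/
theorem all_single {a : G3} (ha : a ∈ U3) {i k : Fin 3} (h0 : (a : M3) i k = 0) :
    ∀ r j l, (a : M3) r j ≠ 0 → (a : M3) r l ≠ 0 → j = l := by
  intro r
  rcases row_cases hF ha r with hr | hr
  swap
  · exact hr
  exfalso
  rcases row_cases hF ha i with hi | hi
  · exact hi k h0
  obtain ⟨k0, hk0⟩ : ∃ k0, (a : M3) i k0 ≠ 0 := by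
    by_contra hc
    push Not at hc
    have h := row_orth hF ha i i
    rw [if_pos rfl, Finset.sum_eq_zero (fun l _ => by simp [hc l])] at h
    exact zero_ne_one h
  have hir : i ≠ r := fun e => hr k (e ▸ h0)
  have h := row_orth hF ha i r
  rw [if_neg hir, Finset.sum_eq_single k0 (fun l _ hl => by
    rw [show (a : M3) i l = 0 from not_not.1 fun hne => hl (hi l k0 hne hk0)]; simp) (by simp)] at h
  simp [hk0, hr k0] at h

/-- Columns of a monomial unitary matrix. -/
theorem col_single {a : G3} (ha : a ∈ U3) (hs : ∀ r j l, (a : M3) r j ≠ 0 → (a : M3) r l ≠ 0 → j = l)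
    {i j k : Fin 3} (hi : (a : M3) i k ≠ 0) (hj : (a : M3) j k ≠ 0) : i = j := by
  by_contra hij
  have h := row_orth hF ha i j
  rw [if_neg hij, Finset.sum_eq_single k (fun l _ hl => by
    rw [show (a : M3) i l = 0 from not_not.1 fun hne => hl (hs i l k hne hi)]; simp) (by simp)] at h
  simp [hi, hj] at h

omit hF

/-- `diag(1, w, w²)`. -/
def dd (w : F) : Fin 3 → F := fun k => w ^ (k : ℕ)

/-- `diag(1, w, w²)` as an invertible matrix. -/
noncomputable def X {w : F} (hw : IsPrimitiveRoot w 3) : G3 :=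
  ⟨diagonal (dd w), diagonal fun k => w ^ (3 - (k : ℕ)), by
    rw [diagonal_mul_diagonal, ← diagonal_one]
    exact congrArg diagonal (funext fun k => by
      simp only [dd]; rw [← pow_add, show (k : ℕ) + (3 - (k : ℕ)) = 3 by omega, hw.pow_eq_one]), by
    rw [diagonal_mul_diagonal, ← diagonal_one]
    exact congrArg diagonal (funext fun k => by
      simp only [dd]; rw [← pow_add, show 3 - (k : ℕ) + (k : ℕ) = 3 by omega, hw.pow_eq_one])⟩

variable {w : F} (hw : IsPrimitiveRoot w 3)
include hw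

theorem X_val : ((X hw : G3) : M3) = diagonal (dd w) := rfl

theorem X_pow_three : X hw ^ 3 = 1 := by
  apply Units.ext
  rw [Units.val_pow_eq_pow_val, X_val, diagonal_pow, Units.val_one, ← diagonal_one]
  exact congrArg diagonal (funext fun k => by
    simp only [dd, Pi.pow_apply]
    rw [← pow_mul, mul_comm, pow_mul, hw.pow_eq_one, one_pow])

theorem dd_pow_injective {e : ℕ} (he : e = 1 ∨ e = 2) : Function.Injective fun k => dd w k ^ e := by
  intro j k h
  simp only [dd, ← pow_mul] at h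
  have hj := hw.pow_eq_one
  have h' : ((j : ℕ) * e) % 3 = ((k : ℕ) * e) % 3 := by
    refine hw.pow_inj (Nat.mod_lt _ (by norm_num)) (Nat.mod_lt _ (by norm_num)) ?_
    rwa [← pow_mod_orderOf, ← pow_mod_orderOf w ((k : ℕ) * e), ← hw.eq_orderOf] at h
  rcases he with rfl | rfl <;> fin_cases j <;> fin_cases k <;> simp at h' ⊢

include hF

theorem X_mem : X hw ∈ U3 := by
  rw [mem_GU_iff hF, X_val, diagonal_transpose, diagonal_map (map_zero _), diagonal_mul_diagonal, ← diagonal_one]
  exact congrArg diagonal (funext fun k => by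
    simp only [conjHom_apply, dd, Function.comp_apply]
    rw [← pow_succ', ← pow_mul, mul_comm (k : ℕ), pow_mul, hw.pow_eq_one, one_pow])

theorem conj_apply {a : G3} (ha : a ∈ U3) (e : ℕ) (i j : Fin 3) :
    ((a * X hw ^ e * a⁻¹ : G3) : M3) i j = ∑ k, (a : M3) i k * dd w k ^ e * (a : M3) j k ^ 2 := by
  rw [Units.val_mul, Units.val_mul, Units.val_pow_eq_pow_val, X_val, diagonal_pow, Matrix.mul_apply]
  simp only [Matrix.mul_diagonal, inv_apply hF ha, Pi.pow_apply]

/-- Either `a` is monomial, or its conjugate of `X` is a fixed-point-free monomial matrix. -/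
theorem conj_shift {a : G3} (ha : a ∈ U3) :
    (∀ r j l, (a : M3) r j ≠ 0 → (a : M3) r l ≠ 0 → j = l) ∨
      ∃ s : Fin 3, s ≠ 0 ∧ ∀ i j, j ≠ i + s → ((a * X hw * a⁻¹ : G3) : M3) i j = 0 := by
  by_cases hz : ∃ i k, (a : M3) i k = 0
  · obtain ⟨i, k, h⟩ := hz
    exact Or.inl (all_single hF ha h)
  push Not at hz
  right
  set u : G3 := a * X hw * a⁻¹ with hu
  have huU : u ∈ U3 := mul_mem (mul_mem ha (X_mem hF hw)) (inv_mem ha)
  have hdiag : ∀ i, (u : M3) i i = 0 := by
    intro i
    have := conj_apply hF hw ha 1 i i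
    rw [pow_one] at this
    rw [hu, this, ← root_sum hw, Fin.sum_univ_three]
    have t := fun k => term hF (hz i k)
    simp only [dd, pow_one, Fin.val_zero, Fin.val_one, Fin.val_two, pow_zero]
    linear_combination t 0 + w * t 1 + w ^ 2 * t 2
  have hs := all_single hF huU (hdiag 0)
  have hex : ∀ i, ∃ j, (u : M3) i j ≠ 0 := by
    intro i
    by_contra hc
    push Not at hc
    have h := row_orth hF huU i i
    rw [if_pos rfl, Finset.sum_eq_zero (fun l _ => by simp [hc l])] at h
    exact zero_ne_one h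
  choose π hπ using hex
  have hinj : Function.Injective π := fun i j h => col_single hF huU hs (hπ i) (h ▸ hπ j)
  have hfix : ∀ i, π i ≠ i := fun i h => hπ i (by rw [h]; exact hdiag i)
  have key : ∀ p : Fin 3 → Fin 3, Function.Injective p → (∀ i, p i ≠ i) →
      (∀ i, p i = i + 1) ∨ (∀ i, p i = i + 2) := by decide
  have hfin : ∀ s, (∀ i, π i = i + s) → ∀ i j, j ≠ i + s → (u : M3) i j = 0 := fun s h i j hj =>
    not_not.1 fun hne => hj (by rw [← h i]; exact hs i _ _ hne (hπ i))
  rcases key π hinj hfix with h | h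
  · exact ⟨1, by decide, hfin 1 h⟩
  · exact ⟨2, by decide, hfin 2 h⟩

/-- Conjugates of `X` commute with `X` up to a scalar. -/
theorem conj_rel {a : G3} (ha : a ∈ U3) :
    ∃ c : F, (X hw : M3) * ((a * X hw * a⁻¹ : G3) : M3) = c • (((a * X hw * a⁻¹ : G3) : M3) * (X hw : M3)) := by
  rcases conj_shift hF hw ha with hs | ⟨s, hs0, hs⟩
  · refine ⟨1, ?_⟩
    rw [one_smul, X_val]
    ext i j
    rw [Matrix.diagonal_mul, Matrix.mul_diagonal]
    rcases eq_or_ne i j with rfl | hij
    · ring
    have h0 : ((a * X hw * a⁻¹ : G3) : M3) i j = 0 := by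
      have := conj_apply hF hw ha 1 i j
      rw [pow_one] at this
      rw [this]
      refine Finset.sum_eq_zero fun k _ => ?_
      by_contra hne
      obtain ⟨h1, h2⟩ := mul_ne_zero_iff.1 hne
      exact hij (col_single hF ha hs (j := j) (k := k) (mul_ne_zero_iff.1 h1).1 (fun e => h2 (by simp [e])))
    rw [h0, mul_zero, zero_mul]
  · refine ⟨w ^ (3 - (s : ℕ)), ?_⟩
    rw [X_val]
    ext i j
    rw [Matrix.smul_apply, Matrix.diagonal_mul, Matrix.mul_diagonal, smul_eq_mul]
    rcases eq_or_ne j (i + s) with rfl | hj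
    · have : dd w i = w ^ (3 - (s : ℕ)) * dd w (i + s) := by
        have hexp : ∀ i s : Fin 3, (3 - (s : ℕ) + ((i + s : Fin 3) : ℕ)) % 3 = (i : ℕ) := by decide
        simp only [dd]
        rw [← pow_add, ← pow_mod_orderOf w (3 - (s : ℕ) + ((i + s : Fin 3) : ℕ)), ← hw.eq_orderOf, hexp]
      rw [this]
      ring
    · rw [hs i j hj]
      ring

/-- For a non-monomial matrix some conjugate of a power of `X` is a forward shift. -/
theorem forward {a : G3} (ha : a ∈ U3) (hm : ¬ ∀ r j l, (a : M3) r j ≠ 0 → (a : M3) r l ≠ 0 → j = l) :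
    ∃ e : ℕ, (e = 1 ∨ e = 2) ∧ ∀ i j, j ≠ i + 1 → ((a * X hw ^ e * a⁻¹ : G3) : M3) i j = 0 := by
  rcases (conj_shift hF hw ha).resolve_left hm with ⟨s, hs0, hs⟩
  fin_cases s
  · exact absurd rfl hs0
  · exact ⟨1, Or.inl rfl, by simpa using hs⟩
  · refine ⟨2, Or.inr rfl, fun i j hj => ?_⟩
    rw [show a * X hw ^ 2 * a⁻¹ = (a * X hw * a⁻¹) * (a * X hw * a⁻¹) by simp [pow_two, mul_assoc], Units.val_mul, Matrix.mul_apply]
    refine Finset.sum_eq_zero fun k _ => ?_
    by_cases hk : k = i + 2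
    · rw [hs k j (fun e => hj (by
        have key : ∀ i : Fin 3, i + 2 + 2 = i + 1 := by decide
        rw [e, hk]; exact key i))]
      ring
    · rw [hs i k hk]
      ring

omit hw

/-- The monomial matrices in `GU₃(2)`. -/
def mono : Subgroup G3 where
  carrier := {a | a ∈ U3 ∧ ∀ r j l, (a : M3) r j ≠ 0 → (a : M3) r l ≠ 0 → j = l}
  one_mem' := ⟨one_mem _, fun r j l hj hl => by
    rw [Units.val_one, Matrix.one_apply] at hj hl
    simp only [ne_eq, ite_eq_right_iff, one_ne_zero, imp_false, not_not] at hj hl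
    exact hj.symm.trans hl⟩
  mul_mem' := by
    rintro a b ⟨ha, ha'⟩ ⟨hb, hb'⟩
    refine ⟨mul_mem ha hb, fun r j l hj hl => ?_⟩
    rw [Units.val_mul, Matrix.mul_apply] at hj hl
    obtain ⟨k, -, hk⟩ := Finset.exists_ne_zero_of_sum_ne_zero hj
    obtain ⟨k', -, hk'⟩ := Finset.exists_ne_zero_of_sum_ne_zero hl
    obtain ⟨h1, h2⟩ := mul_ne_zero_iff.1 hk
    obtain ⟨h3, h4⟩ := mul_ne_zero_iff.1 hk'
    obtain rfl := ha' r k k' h1 h3
    exact hb' k j l h2 h4
  inv_mem' := by
    rintro a ⟨ha, ha'⟩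
    refine ⟨inv_mem ha, fun r j l hj hl => ?_⟩
    rw [inv_apply hF ha] at hj hl
    exact col_single hF ha ha' (i := j) (j := l) (k := r) (fun e => hj (by simp [e])) (fun e => hl (by simp [e]))

theorem mem_mono {a : G3} :
    a ∈ mono hF ↔ a ∈ U3 ∧ ∀ r j l, (a : M3) r j ≠ 0 → (a : M3) r l ≠ 0 → j = l := Iff.rfl

theorem exists_support {a : G3} (ha : a ∈ mono hF) (i : Fin 3) : ∃ k, (a : M3) i k ≠ 0 := by
  by_contra hc
  push Not at hc
  have h := row_orth hF ha.1 i i
  rw [if_pos rfl, Finset.sum_eq_zero (fun l _ => by simp [hc l])] at h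
  exact zero_ne_one h

/-- The monomial subgroup is solvable. -/
theorem mono_solvable : Group.IsSolvable (mono hF) := by
  classical
  have hex : ∀ (a : mono hF) (i : Fin 3), ∃ k, ((a : G3) : M3) i k ≠ 0 := fun a i => exists_support hF a.2 i
  choose p hp using hex
  have huniq : ∀ (a : mono hF) i k, ((a : G3) : M3) i k ≠ 0 → p a i = k := fun a i k hk =>
    a.2.2 i _ _ (hp a i) hk
  have hmul : ∀ (a b : mono hF) i, p (a * b) i = p b (p a i) := by
    intro a b i
    refine huniq _ _ _ ?_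
    rw [Subgroup.coe_mul, Units.val_mul, Matrix.mul_apply, Finset.sum_eq_single (p a i) (fun l _ hl => by
      rw [show ((a : G3) : M3) i l = 0 from not_not.1 fun hne => hl (huniq a i l hne).symm, zero_mul]) (by simp)]
    exact mul_ne_zero (hp a i) (hp b _)
  have hone : ∀ i, p 1 i = i := fun i => huniq 1 i i (by simp)
  let ψ : mono hF →* Equiv.Perm (Fin 3) :=
    { toFun := fun a => ⟨p a⁻¹, p a, fun i => by rw [← hmul, inv_mul_cancel, hone],
        fun i => by rw [← hmul, mul_inv_cancel, hone]⟩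
      map_one' := Equiv.ext fun i => by show p (1⁻¹) i = i; rw [inv_one, hone]
      map_mul' := fun a b => Equiv.ext fun i => by show p (a * b)⁻¹ i = p a⁻¹ (p b⁻¹ i); rw [_root_.mul_inv_rev, hmul] }
  haveI : Group.IsSolvable (Equiv.Perm (Fin 3)) :=
    Cfsg.Agent.Lib.PGroups.isSolvable_perm_of_card_le_four (by simp)
  haveI : Group.IsSolvable ψ.ker := isSolvable_of_comm fun a b => by
    have hd : ∀ (a : mono hF), a ∈ ψ.ker → ((a : G3) : M3) = diagonal fun i => ((a : G3) : M3) i i := by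
      intro a ha
      ext i j
      rcases eq_or_ne i j with rfl | hij
      · simp
      rw [Matrix.diagonal_apply_ne _ hij]
      by_contra hne
      have h1 : p a i = i := by
        have := congrArg (fun e : Equiv.Perm (Fin 3) => e.symm i) (MonoidHom.mem_ker.1 ha)
        simpa [ψ, Equiv.Perm.one_def] using this
      exact hij (h1.symm.trans (huniq a i j hne))
    apply Subtype.ext; apply Subtype.ext; apply Units.ext
    simp only [Subgroup.coe_mul, Units.val_mul]
    rw [hd a a.2, hd b b.2, diagonal_mul_diagonal, diagonal_mul_diagonal]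
    exact congrArg diagonal (funext fun i => mul_comm _ _)
  exact solvable_of_ker_le_range ψ.ker.subtype ψ (by rw [Subgroup.range_subtype])

/-- `GU₃(2)` is solvable. -/
theorem solvable : Group.IsSolvable (Cfsg.GU 3 F 2) := by
  classical
  obtain ⟨w, hw⟩ := exists_root (F := F) (by simpa using hF)
  let K : Subgroup U3 := (mono hF).subgroupOf U3
  have hv : ∀ a : U3, a ∉ K → ∃ e : ℕ, (e = 1 ∨ e = 2) ∧
      ∀ i j, j ≠ i + 1 → (((a : G3) * X hw ^ e * (a : G3)⁻¹ : G3) : M3) i j = 0 := fun a ha =>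
    forward hF hw a.2 fun h => ha (Subgroup.mem_subgroupOf.2 ⟨a.2, h⟩)
  choose e he hsh using hv
  let v : ∀ a : U3, a ∉ K → G3 := fun a ha => (a : G3) * X hw ^ e a ha * (a : G3)⁻¹
  have hent : ∀ a ha, ((v a ha : G3) : M3) 0 1 * ((v a ha : G3) : M3) 1 2 * ((v a ha : G3) : M3) 2 0 = 1 := by
    intro a ha
    have hdet : Matrix.det ((v a ha : G3) : M3) = 1 := by
      simp only [v, Units.val_mul, Matrix.det_mul, Units.val_pow_eq_pow_val, Matrix.det_pow]
      rw [mul_comm (Matrix.det ((a : G3) : M3)), mul_assoc, ← Matrix.det_mul, Units.mul_inv, Matrix.det_one, mul_one,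
        X_val, Matrix.det_diagonal, Fin.prod_univ_three]
      simp only [dd, Fin.val_zero, Fin.val_one, Fin.val_two, pow_zero, one_mul, ← pow_add]
      norm_num [← pow_succ', hw.pow_eq_one]
    have z := hsh a ha
    rw [Matrix.det_fin_three, z 0 0 (by decide), z 0 2 (by decide), z 1 1 (by decide), z 1 0 (by decide),
      z 2 2 (by decide), z 2 1 (by decide)] at hdet
    simp only [zero_mul, mul_zero, sub_zero, zero_sub, add_zero, zero_add, neg_zero] at hdet
    exact hdet
  let φ : U3 → F := fun a => if h : a ∈ K then 0 else ((v a h : G3) : M3) 0 1 / ((v a h : G3) : M3) 1 2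
  have hφ : ∀ a b, φ a = φ b → a⁻¹ * b ∈ K := by
    intro a b hab
    have hne : ∀ a ha, ((v a ha : G3) : M3) 0 1 ≠ 0 ∧ ((v a ha : G3) : M3) 1 2 ≠ 0 := fun a ha =>
      mul_ne_zero_iff.1 (mul_ne_zero_iff.1 (by rw [hent a ha]; exact one_ne_zero)).1
    by_cases ha : a ∈ K <;> by_cases hb : b ∈ K
    · exact mul_mem (inv_mem ha) hb
    · simp only [φ, ha, hb, dif_pos, dif_neg, not_false_iff] at hab
      exact absurd hab.symm (div_ne_zero (hne b hb).1 (hne b hb).2)
    · simp only [φ, ha, hb, dif_pos, dif_neg, not_false_iff] at hab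
      exact absurd hab (div_ne_zero (hne a ha).1 (hne a ha).2)
    simp only [φ, ha, hb, dif_neg, not_false_iff] at hab
    obtain ⟨a1, a2⟩ := hne a ha
    obtain ⟨b1, b2⟩ := hne b hb
    set c := ((v b hb : G3) : M3) 0 1 / ((v a ha : G3) : M3) 0 1 with hc
    have hc3 : c ^ 3 = 1 := pow_three (by simpa using hF) (div_ne_zero b1 a1)
    have e01 : ((v b hb : G3) : M3) 0 1 = c * ((v a ha : G3) : M3) 0 1 := by rw [hc]; field_simp
    have e12 : ((v b hb : G3) : M3) 1 2 = c * ((v a ha : G3) : M3) 1 2 := by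
      rw [hc]; field_simp at hab ⊢; linear_combination hab
    have e20 : ((v b hb : G3) : M3) 2 0 = c * ((v a ha : G3) : M3) 2 0 := by
      have h1 := hent b hb
      rw [e01, e12] at h1
      have h2 := hent a ha
      have hc0 : c ≠ 0 := div_ne_zero b1 a1
      refine mul_left_cancel₀ (mul_ne_zero (mul_ne_zero hc0 a1) (mul_ne_zero hc0 a2)) ?_
      linear_combination h1 - (((v a ha : G3) : M3) 0 1 * ((v a ha : G3) : M3) 1 2 * ((v a ha : G3) : M3) 2 0) * hc3 - h2
    have hvv : ((v b hb : G3) : M3) = c • ((v a ha : G3) : M3) := by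
      ext i j
      rw [Matrix.smul_apply, smul_eq_mul]
      by_cases hj : j = i + 1
      · subst hj
        fin_cases i
        · exact e01
        · exact e12
        · exact e20
      · rw [hsh b hb i j hj, hsh a ha i j hj, mul_zero]
    refine Subgroup.mem_subgroupOf.2 ⟨(a⁻¹ * b : U3).2, fun r j l hj hl => ?_⟩
    set k : G3 := ((a⁻¹ * b : U3) : G3) with hk
    have hrel : (k : M3) * diagonal (dd w ^ e b hb) = c • (diagonal (dd w ^ e a ha) * (k : M3)) := by
      have hbb : (b : G3) = (a : G3) * k := by simp [hk]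
      have h0 := congrArg (fun m : M3 => (((a : G3)⁻¹ : G3) : M3) * m * ((b : G3) : M3)) hvv
      simp only [Matrix.mul_smul, Matrix.smul_mul, v, ← Units.val_mul] at h0
      rw [show (a : G3)⁻¹ * ((b : G3) * X hw ^ e b hb * (b : G3)⁻¹) * b = k * X hw ^ e b hb by rw [hbb]; group,
        show (a : G3)⁻¹ * ((a : G3) * X hw ^ e a ha * (a : G3)⁻¹) * b = X hw ^ e a ha * k by rw [hbb]; group,
        Units.val_mul, Units.val_mul, Units.val_pow_eq_pow_val, Units.val_pow_eq_pow_val, X_val, diagonal_pow,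
        diagonal_pow] at h0
      exact h0
    have hd : ∀ m, (k : M3) r m ≠ 0 → dd w m ^ e b hb = c * dd w r ^ e a ha := by
      intro m hm
      have h0 := congrFun (congrFun hrel r) m
      rw [Matrix.mul_diagonal, Matrix.smul_apply, Matrix.diagonal_mul, smul_eq_mul, Pi.pow_apply, Pi.pow_apply] at h0
      exact mul_left_cancel₀ hm (by linear_combination h0)
    exact dd_pow_injective hw (he b hb) ((hd j hj).trans (hd l hl).symm)
  have hidx : Nat.card (U3 ⧸ K) ≤ 4 := by
    have hinj : Function.Injective fun q : U3 ⧸ K => φ q.out := fun q q' h => by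
      rw [← QuotientGroup.out_eq' q, ← QuotientGroup.out_eq' q']
      exact QuotientGroup.eq.2 (hφ _ _ h)
    exact (Nat.card_le_card_of_injective _ hinj).trans (by rw [Nat.card_eq_fintype_card, hF]; norm_num)
  haveI : Finite (U3 ⧸ K) := inferInstance
  haveI := Fintype.ofFinite (U3 ⧸ K)
  haveI : Group.IsSolvable (Equiv.Perm (U3 ⧸ K)) :=
    Cfsg.Agent.Lib.PGroups.isSolvable_perm_of_card_le_four (by rwa [← Nat.card_eq_fintype_card])
  haveI : Group.IsSolvable K :=
    haveI := mono_solvable hF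
    Group.isSolvable_of_isSolvable_injective (G' := mono hF)
      (f := MonoidHom.mk' (fun x : K => (⟨((x : U3) : G3), Subgroup.mem_subgroupOf.1 x.2⟩ : mono hF)) fun _ _ => rfl)
      fun x y h => Subtype.ext (Subtype.ext (congrArg (fun z : mono hF => (z : G3)) h))
  exact solvable_of_ker_le_range K.subtype (MulAction.toPermHom U3 (U3 ⧸ K)) (by
    rw [Subgroup.range_subtype, ← Subgroup.normalCore_eq_ker]
    exact K.normalCore_le)

/-- Any two conjugates of `X` commute up to a scalar. -/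
theorem conj_conj_rel {w : F} (hw : IsPrimitiveRoot w 3) {a b : G3} (ha : a ∈ U3) (hb : b ∈ U3) :
    ∃ c : F, ((a * X hw * a⁻¹ * (b * X hw * b⁻¹) : G3) : M3) = c • ((b * X hw * b⁻¹ * (a * X hw * a⁻¹) : G3) : M3) := by
  obtain ⟨c, hc⟩ := conj_rel hF hw (mul_mem (inv_mem ha) hb)
  refine ⟨c, ?_⟩
  have h := congrArg (fun m : M3 => (a : M3) * m * ((a⁻¹ : G3) : M3)) hc
  simp only [Matrix.mul_smul, Matrix.smul_mul, ← Units.val_mul] at h
  rw [show a * (X hw * (a⁻¹ * b * X hw * (a⁻¹ * b)⁻¹)) * a⁻¹ = a * X hw * a⁻¹ * (b * X hw * b⁻¹) by simp [mul_assoc],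
    show a * (a⁻¹ * b * X hw * (a⁻¹ * b)⁻¹ * X hw) * a⁻¹ = b * X hw * b⁻¹ * (a * X hw * a⁻¹) by simp [mul_assoc]] at h
  exact h

/-- A conjugate of `X` forming a pair with it. -/
theorem exists_pair {w : F} (hw : IsPrimitiveRoot w 3) : ∃ a ∈ U3, ∃ c : F, IsPrimitiveRoot c 3 ∧
    (X hw : M3) * ((a * X hw * a⁻¹ : G3) : M3) = c • (((a * X hw * a⁻¹ : G3) : M3) * (X hw : M3)) := by
  have h2 := two_eq_zero (F := F) (by simpa using hF)
  let A : M3 := Matrix.of fun i k => w ^ ((i : ℕ) * (k : ℕ))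
  let B : M3 := (A.map (conjHom hF))ᵀ
  have hex : ∀ i j : Fin 3, ((i : ℕ) + 2 * (j : ℕ)) % 3 = 0 ↔ i = j := by decide
  have hAB : A * B = 1 := by
    ext i j
    set z := w ^ ((i : ℕ) + 2 * (j : ℕ)) with hz
    have e : (A * B) i j = 1 + z + z ^ 2 := by
      simp only [A, B, Matrix.mul_apply, Matrix.transpose_apply, Matrix.map_apply, Matrix.of_apply, conjHom_apply,
        Fin.sum_univ_three, hz, Fin.val_zero, Fin.val_one, Fin.val_two]
      ring
    have hz3 : z ^ 3 = 1 := by rw [hz, ← pow_mul, mul_comm, pow_mul, hw.pow_eq_one, one_pow]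
    rw [e, Matrix.one_apply]
    by_cases hij : i = j
    · rw [if_pos hij]
      have : z = 1 := (hw.pow_eq_one_iff_dvd _).2 (Nat.dvd_of_mod_eq_zero ((hex i j).2 hij))
      rw [this]
      linear_combination h2
    · rw [if_neg hij]
      have hz1 : z ≠ 1 := fun h => hij ((hex i j).1 (Nat.mod_eq_zero_of_dvd ((hw.pow_eq_one_iff_dvd _).1 h)) )
      exact (mul_eq_zero.1 (show (z - 1) * (1 + z + z ^ 2) = 0 by linear_combination hz3)).resolve_left
        (sub_ne_zero.2 hz1)
  let a : G3 := ⟨A, B, hAB, mul_eq_one_comm.1 hAB⟩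
  have ha : a ∈ U3 := by
    rw [mem_GU_iff hF]
    have h := congrArg Matrix.transpose (mul_eq_one_comm.1 hAB)
    simpa [B, Matrix.transpose_mul] using h
  have hnm : ¬ ∀ r j l, (a : M3) r j ≠ 0 → (a : M3) r l ≠ 0 → j = l := fun h =>
    absurd (h 0 0 1 (by simp [a, A]) (by simp [a, A])) (by decide)
  obtain ⟨s, hs0, hs⟩ := (conj_shift hF hw ha).resolve_left hnm
  obtain ⟨c, hc⟩ := conj_rel hF hw ha
  set u := a * X hw * a⁻¹ with hu
  have hne : ∀ i, (u : M3) i (i + s) ≠ 0 := by
    intro i h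
    have huU : u ∈ U3 := mul_mem (mul_mem ha (X_mem hF hw)) (inv_mem ha)
    have h1 := row_orth hF huU i i
    rw [if_pos rfl, Finset.sum_eq_zero (fun l _ => by
      by_cases hl : l = i + s
      · rw [hl, h]; simp
      · rw [hs i l hl]; simp)] at h1
    exact zero_ne_one h1
  have h0 := congrFun (congrFun hc 0) (0 + s)
  rw [X_val, Matrix.diagonal_mul, Matrix.smul_apply, Matrix.mul_diagonal, smul_eq_mul] at h0
  have hd : dd w 0 = c * dd w (0 + s) := mul_right_cancel₀ (hne 0) (by linear_combination h0)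
  have hd0 : dd w (0 + s) ^ 3 = 1 := by rw [dd, ← pow_mul, mul_comm, pow_mul, hw.pow_eq_one, one_pow]
  have hc1 : c ≠ 1 := by
    rintro rfl
    rw [one_mul] at hd
    have h := dd_pow_injective hw (Or.inl rfl) (a₁ := 0) (a₂ := 0 + s) (by simpa using hd)
    exact hs0 (by simpa using h.symm)
  have hc3 : c ^ 3 = 1 := by
    have h := congrArg (fun t => t ^ 3) hd
    simp only [mul_pow, hd0, mul_one] at h
    rw [← h]; simp [dd]
  refine ⟨a, ha, c, ?_, hc⟩
  haveI := Fact.mk Nat.prime_three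
  exact IsPrimitiveRoot.iff_orderOf.2 (orderOf_eq_prime hc3 hc1)

end Cfsg.Agent.Lib.UnitNine.GUThreeFour
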