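import Cfsg.Agent.Lib.UnitNine.Steps
import Cfsg.Agent.Lib.UnitNine.Core
import Cfsg.Agent.Lib.LinNine.Wreath
import Cfsg.Agent.Lib.TwoPrimeDim.Homogeneous

/-!
Homogeneous normal subgroups in degree nine.
-/

set_option autoImplicit false
set_option linter.style.haveILetI false

namespace Cfsg.Agent.Lib.UnitNine

open Matrix Module Cfsg.Geo
open scoped MatrixGroups Matrix
open Cfsg.Agent.Lib
open Cfsg.Agent.Lib.TwoPrimeDim (centre mem_centre)
open Cfsg.Agent.Lib.KnownA.PrimeDim (Norms actsIrreducibly_iff)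

variable {F : Type*} [Field F] [Fintype F]

local notation "G9" => GL (Fin 9) F
local notation "M9" => Matrix (Fin 9) (Fin 9) F

/-- A normal subgroup with scalar centre of the commutant is scalar, a product `3 ⊗ 1`, or absolutely irreducible. -/
theorem homog_cases {G N : Subgroup G9} (hG : ActsIrreducibly (matrixSet G)) (hn : Norms G N)
    (hc : ∀ x ∈ centre N, ∃ c : F, x = c • (1 : M9)) :
    N ≤ scalars (Fin 9) F ∨ ActsAbsolutelyIrreducibly (matrixSet N) ∨
    ∃ (A : N → Matrix (Fin 3) (Fin 3) F) (φ : Fin 3 → (Fin 3 → F) →ₗ[F] (Fin 9 → F)),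
      (∀ U : Submodule F (Fin 3 → F), (∀ n, ∀ u ∈ U, A n *ᵥ u ∈ U) → U = ⊥ ∨ U = ⊤) ∧
      (∀ X : Matrix (Fin 3) (Fin 3) F, (∀ n, X * A n = A n * X) → ∃ c : F, X = c • 1) ∧
      (∀ j (n : N) x, ((n : G9) : M9) *ᵥ φ j x = φ j (A n *ᵥ x)) ∧
      Function.Bijective (MaxTensor.assemble φ) := by
  classical
  obtain ⟨d, k, A, φ, hdk, hd0, hk0, hAirr, hAscal, hequiv, hbij⟩ := TwoPrimeDim.homogeneous hG hn hc
  rw [Fintype.card_fin] at hdk
  have hdm : d ∈ Nat.divisors 9 := Nat.mem_divisors.2 ⟨⟨k, hdk.symm⟩, by norm_num⟩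
  rw [show Nat.divisors 9 = {1, 3, 9} by decide] at hdm
  simp only [Finset.mem_insert, Finset.mem_singleton] at hdm
  have hsingle : ∀ j (x : Fin d → F), MaxTensor.assemble φ (Pi.single j x) = φ j x := by
    intro j x
    show ∑ l, φ l ((Pi.single j x : Fin k → Fin d → F) l) = _
    rw [Finset.sum_eq_single j (fun l _ hl => by rw [Pi.single_eq_of_ne hl, map_zero]) (by simp), Pi.single_eq_same]
  rcases hdm with rfl | rfl | rfl
  · refine Or.inl fun g hg => ?_
    obtain ⟨c, hc⟩ : ∃ c : F, A ⟨g, hg⟩ = c • 1 :=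
      ⟨A ⟨g, hg⟩ 0 0, by ext i j; fin_cases i; fin_cases j; simp⟩
    refine KnownA.PrimeDim.mem_scalars_of_matrix (by simp) (c := c) (KnownA.PrimeDim.eq_smul_one fun v => ?_)
    obtain ⟨u, rfl⟩ := hbij.2 v
    simp only [MaxTensor.assemble, LinearMap.coe_mk, AddHom.coe_mk, Matrix.mulVec_sum, Finset.smul_sum]
    refine Finset.sum_congr rfl fun j _ => ?_
    rw [hequiv j ⟨g, hg⟩, hc, Matrix.smul_mulVec, Matrix.one_mulVec, map_smul]
  · obtain rfl : k = 3 := by omega
    exact Or.inr (Or.inr ⟨A, φ, hAirr, hAscal, hequiv, hbij⟩)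
  obtain rfl : k = 1 := by omega
  refine Or.inr (Or.inl ?_)
  have hφb : Function.Bijective (φ 0) := by
    constructor
    · intro x y hxy
      have := hbij.1 (a₁ := Pi.single 0 x) (a₂ := Pi.single 0 y) (by rw [hsingle, hsingle, hxy])
      simpa using congrFun this 0
    · intro v
      obtain ⟨u, rfl⟩ := hbij.2 v
      exact ⟨u 0, by simp [MaxTensor.assemble]⟩
  constructor
  · rw [actsIrreducibly_iff]
    intro U hU
    rcases hAirr (U.comap (φ 0)) (fun n u hu => by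
      rw [Submodule.mem_comap] at hu ⊢; rw [← hequiv]; exact hU n n.2 _ hu) with h | h
    · left
      rw [eq_bot_iff]
      intro v hv
      obtain ⟨x, rfl⟩ := hφb.2 v
      have : x ∈ U.comap (φ 0) := hv
      rw [h, Submodule.mem_bot] at this
      simp [this]
    · right
      rw [eq_top_iff]
      intro v _
      obtain ⟨x, rfl⟩ := hφb.2 v
      exact (h.ge (Submodule.mem_top : x ∈ ⊤) : x ∈ U.comap (φ 0))
  · intro X hX
    let E := LinearEquiv.ofBijective (φ 0) hφb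
    obtain ⟨c, hc'⟩ := hAscal (LinearMap.toMatrix' (E.symm.toLinearMap ∘ₗ Matrix.toLin' X ∘ₗ E.toLinearMap))
      (fun n => by
        apply Matrix.toLin'.injective
        rw [Matrix.toLin'_mul, Matrix.toLin'_mul, Matrix.toLin'_toMatrix']
        refine LinearMap.ext fun x => E.injective ?_
        have key : ∀ y, E (A n *ᵥ y) = ((n : G9) : M9) *ᵥ E y := fun y => (hequiv 0 n y).symm
        simp only [LinearMap.comp_apply, LinearEquiv.coe_coe, Matrix.toLin'_apply, LinearEquiv.apply_symm_apply,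
          key, Matrix.mulVec_mulVec, hX _ ⟨n, n.2, rfl⟩])
    refine ⟨c, KnownA.PrimeDim.eq_smul_one fun v => ?_⟩
    obtain ⟨x, rfl⟩ := E.surjective v
    have h2 := congrArg (fun Y => Matrix.toLin' Y x) hc'
    simp only [Matrix.toLin'_toMatrix', LinearMap.comp_apply, LinearEquiv.coe_coe, Matrix.toLin'_apply,
      Matrix.smul_mulVec, Matrix.one_mulVec] at h2
    rw [← E.apply_symm_apply (X *ᵥ E x), h2, map_smul]

/-- Two commuting non-abelian normal factors lie in a tensor decomposition. -/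
theorem pair_tensor {q : ℕ} (hF : Fintype.card F = q ^ 2) {P M M2 : Subgroup G9} (hPU : P ≤ Cfsg.GU 9 F q)
    (hP : ActsAbsolutelyIrreducibly (matrixSet P)) (hMP : M ≤ P) (hn : Norms P M)
    (hna : ∃ a ∈ M, ∃ b ∈ M, a * b ≠ b * a) (hna2 : ∃ a ∈ M2, ∃ b ∈ M2, a * b ≠ b * a)
    (hcomm : ∀ x ∈ M, ∀ y ∈ M2, x * y = y * x) :
    ∃ (e : Fin 9 ≃ Fin 3 × Fin 3) (Q : G9) (f₁ f₂ : (Fin 3 → F) → (Fin 3 → F) → F),
      IsUnitaryFormPow q f₁ ∧ IsUnitaryFormPow q f₂ ∧
      IsTensorFormStructure (fun x : F => x ^ q) (Cfsg.hermForm 9 F q) f₁ f₂ e Q ∧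
      P ≤ tensorProductSubgroup 3 3 e Q := by
  obtain ⟨a, ha, b, hb, hab⟩ := hna
  have hH : LinNine.TwoFactors.Hyp P M M2 := ⟨by simp, hP.1, hn, ⟨a, ha, b, hb, hab⟩, hna2, hcomm⟩
  rcases homog_cases hP.1 hn hH.centre_scalar with h | h | ⟨A, φ, hirr, hscal, hequiv, hbij⟩
  · exact absurd (KnownA.PrimeDim.scalars_comm (h ha) b).symm (by intro e; exact hab e)
  · obtain ⟨c, hc, d, hd, hcd⟩ := hna2
    have hall : ∀ y ∈ M2, ∃ s : F, (y : M9) = s • 1 := fun y hy => h.2 _ (by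
      rintro _ ⟨x, hx, rfl⟩
      rw [← Units.val_mul, ← Units.val_mul, hcomm x hx y hy])
    obtain ⟨s, hs⟩ := hall c hc
    exact absurd (Units.ext (by simp [hs])) hcd
  · exact UnitTwoPrime.tensor hF hPU hMP hn (by norm_num) (by norm_num) A hirr hscal φ hequiv hbij

end Cfsg.Agent.Lib.UnitNine
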