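import Cfsg.Agent.Lib.UnitNine.GUThreeFour
import Cfsg.Agent.Lib.UnitNine.Defs
import Cfsg.Agent.Lib.UnitTwoPrime.Tensor
import Cfsg.Agent.Lib.Geometry.HermBasis
import Cfsg.Agent.Lib.LinNine.SympFive
import Cfsg.Agent.Lib.KnownA.PrimeDim.Schur

/-!
`GU₃(2) ⊗ GU₃(2)` inside `GU₉(2)`: it is solvable and normalises a symplectic-type group `3^(1+4)` in `SU₉(2)`.
-/

set_option autoImplicit false
set_option linter.unusedSectionVars false
set_option linter.unusedSimpArgs false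
set_option linter.style.haveILetI false

namespace Cfsg.Agent.Lib.UnitNine

open Matrix Cfsg.Geo
open scoped MatrixGroups Matrix Kronecker
open Cfsg.Agent.Lib.UnitPrimeDim (omegaU)
open Cfsg.Agent.Lib.Classical (conjHom conjHom_apply conjHom_conjHom conjHom_ne_id mem_GU_iff hermForm_self_fixed)

namespace PairTwo

variable {F : Type*} [Field F]

/-- The Kronecker product. -/
def kr : GL (Fin 3) F × GL (Fin 3) F →* GL (Fin 3 × Fin 3) F where
  toFun ab := ⟨(ab.1 : Matrix (Fin 3) (Fin 3) F) ⊗ₖ (ab.2 : Matrix (Fin 3) (Fin 3) F),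
    ((ab.1⁻¹ : GL (Fin 3) F) : Matrix (Fin 3) (Fin 3) F) ⊗ₖ ((ab.2⁻¹ : GL (Fin 3) F) : Matrix (Fin 3) (Fin 3) F),
    by rw [← Matrix.mul_kronecker_mul, Units.mul_inv, Units.mul_inv, Matrix.one_kronecker_one],
    by rw [← Matrix.mul_kronecker_mul, Units.inv_mul, Units.inv_mul, Matrix.one_kronecker_one]⟩
  map_one' := Units.ext (by simp)
  map_mul' a b := Units.ext (by simp [Matrix.mul_kronecker_mul])

/-- The tensor embedding attached to `e` and `P`. -/
def emb (e : Fin 9 ≃ Fin 3 × Fin 3) (P : GL (Fin 9) F) : GL (Fin 3) F × GL (Fin 3) F →* GL (Fin 9) F :=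
  (MulAut.conj P).toMonoidHom.comp ((glReindex e.symm).toMonoidHom.comp kr)

theorem emb_val (e : Fin 9 ≃ Fin 3 × Fin 3) (P : GL (Fin 9) F) (a b : GL (Fin 3) F) :
    ((emb e P (a, b) : GL (Fin 9) F) : Matrix (Fin 9) (Fin 9) F) = (P : Matrix (Fin 9) (Fin 9) F) *
      ((a : Matrix (Fin 3) (Fin 3) F) ⊗ₖ (b : Matrix (Fin 3) (Fin 3) F)).submatrix e e *
      ((P⁻¹ : GL (Fin 9) F) : Matrix (Fin 9) (Fin 9) F) := rfl

theorem mem_tensor_iff (e : Fin 9 ≃ Fin 3 × Fin 3) (P : GL (Fin 9) F) {g : GL (Fin 9) F}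
    (hg : g ∈ tensorProductSubgroup 3 3 e P) : ∃ a b, emb e P (a, b) = g := by
  obtain ⟨_, ⟨K, ⟨a, b, hK⟩, rfl⟩, rfl⟩ := hg
  refine ⟨a, b, ?_⟩
  have : kr (a, b) = K := Units.ext hK.symm
  simp [emb, this]

variable [Fintype F] (hF : Fintype.card F = 2 ^ 2)
include hF

theorem orthonormal {f : (Fin 3 → F) → (Fin 3 → F) → F} (hf : IsUnitaryFormPow 2 f) :
    ∃ B : GL (Fin 3) F,
      (B : Matrix (Fin 3) (Fin 3) F)ᵀ * gramMatrix f * (B : Matrix (Fin 3) (Fin 3) F).map (conjHom hF) = 1 := by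
  have hh : UnitTwoPrime.Herm (conjHom hF) f :=
    ⟨conjHom_conjHom hF, hf.add_left, hf.smul_left, fun v w => by rw [conjHom_apply]; exact hf.herm v w,
      hf.nondegenerate⟩
  let β : (Fin 3 → F) →ₛₗ[conjHom hF] (Fin 3 → F) →ₗ[F] F :=
    LinearMap.mk₂'ₛₗ (conjHom hF) (RingHom.id F) (fun x y => f y x) (fun x x' y => hh.add_right y x x')
      (fun c x y => hh.smul_right c y x) (fun x y y' => hf.add_left y y' x) (fun c x y => hf.smul_left c y x)
  have hS : β.IsSymm := ⟨fun x y => (hh.herm x y).symm⟩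
  have hB : β.Nondegenerate := by
    constructor
    · intro x hx
      by_contra h0
      obtain ⟨⟨y, hy⟩, -⟩ := hf.nondegenerate x h0
      exact hy (hx y)
    · intro y hy
      by_contra h0
      obtain ⟨-, x, hx⟩ := hf.nondegenerate y h0
      exact hx (hy x)
  obtain ⟨v, hv⟩ := Geometry.exists_orthonormal_family (conjHom_ne_id hF) (conjHom_conjHom hF) β hS hB 3
    (by simp)
  let C : Matrix (Fin 3) (Fin 3) F := Matrix.of fun k i => v i k
  have hC : Cᵀ * gramMatrix f * C.map (conjHom hF) = 1 := by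
    ext i j
    have h := hv j i
    change f (v i) (v j) = _ at h
    rw [hh.eq_formOfGram, UnitTwoPrime.formOfGram_eq] at h
    rw [Matrix.one_apply, mul_assoc, Matrix.mul_apply]
    simp only [eq_comm (a := j)] at h
    rw [← h]
    exact Finset.sum_congr rfl fun k _ => rfl
  have hu : IsUnit C := by
    rw [Matrix.isUnit_iff_isUnit_det]
    have h := congrArg Matrix.det hC
    rw [Matrix.det_mul, Matrix.det_mul, Matrix.det_transpose, Matrix.det_one, mul_assoc] at h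
    exact IsUnit.of_mul_eq_one _ h
  exact ⟨hu.unit, hC⟩

variable {e : Fin 9 ≃ Fin 3 × Fin 3} {P : GL (Fin 9) F} {f1 f2 : (Fin 3 → F) → (Fin 3 → F) → F}

/-- The tensor group in orthonormal coordinates. -/
theorem exists_frame (h1 : IsUnitaryFormPow 2 f1) (h2 : IsUnitaryFormPow 2 f2)
    (hs : IsTensorFormStructure (fun x : F => x ^ 2) (Cfsg.hermForm 9 F 2) f1 f2 e P) :
    ∃ P' : GL (Fin 9) F,
      (∀ a b, a ∈ Cfsg.GU 3 F 2 → b ∈ Cfsg.GU 3 F 2 → emb e P' (a, b) ∈ omegaU 9 F 2) ∧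
      tensorProductSubgroup 3 3 e P ⊓ Cfsg.GU 9 F 2 ≤
        ((Cfsg.GU 3 F 2).prod (Cfsg.GU 3 F 2)).map (emb e P') := by
  obtain ⟨B1, hB1⟩ := orthonormal hF h1
  obtain ⟨B2, hB2⟩ := orthonormal hF h2
  obtain ⟨c, hc0, hc⟩ := hs
  have hσ : (fun x : F => x ^ 2) = ⇑(conjHom hF) := funext fun x => (conjHom_apply hF x).symm
  set σ := conjHom hF
  set K : Matrix (Fin 3 × Fin 3) (Fin 3 × Fin 3) F :=
    (B1 : Matrix (Fin 3) (Fin 3) F) ⊗ₖ (B2 : Matrix (Fin 3) (Fin 3) F) with hKdef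
  set P' : GL (Fin 9) F := P * glReindex e.symm (kr (B1, B2)) with hP'
  have hK : Kᵀ * ((gramMatrix f1 ⊗ₖ gramMatrix f2) * K.map σ) = 1 := by
    have hm : K.map σ = (B1 : Matrix (Fin 3) (Fin 3) F).map σ ⊗ₖ (B2 : Matrix (Fin 3) (Fin 3) F).map σ := by
      ext; simp [K]
    have ht : Kᵀ = (B1 : Matrix (Fin 3) (Fin 3) F)ᵀ ⊗ₖ (B2 : Matrix (Fin 3) (Fin 3) F)ᵀ := by
      ext; simp [K]
    rw [hm, ht, ← Matrix.mul_kronecker_mul, ← Matrix.mul_kronecker_mul, ← mul_assoc, ← mul_assoc, hB1, hB2,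
      Matrix.one_kronecker_one]
  have hform : ∀ x y : Fin 9 → F, Cfsg.hermForm 9 F 2 ((P' : Matrix (Fin 9) (Fin 9) F) *ᵥ x)
      ((P' : Matrix (Fin 9) (Fin 9) F) *ᵥ y) = c * Cfsg.hermForm 9 F 2 x y := by
    intro x y
    have e1 : ∀ x, (P' : Matrix (Fin 9) (Fin 9) F) *ᵥ x =
        (P : Matrix (Fin 9) (Fin 9) F) *ᵥ ((K *ᵥ (x ∘ e.symm)) ∘ e) := by
      intro x
      rw [hP', Units.val_mul, ← Matrix.mulVec_mulVec]
      congr 1
      exact Matrix.submatrix_mulVec_equiv (M := K) x e e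
    rw [e1, e1, hc, hσ]
    congr 1
    have hσy : ⇑σ ∘ (K *ᵥ (y ∘ e.symm)) = K.map σ *ᵥ (⇑σ ∘ (y ∘ e.symm)) :=
      funext fun i => RingHom.map_mulVec σ _ _ _
    rw [UnitTwoPrime.formOfGram_eq, hσy, ← Matrix.vecMul_transpose K (x ∘ e.symm), ← Matrix.dotProduct_mulVec,
      Matrix.mulVec_mulVec, Matrix.mulVec_mulVec, mul_assoc, hK, Matrix.one_mulVec]
    simp only [dotProduct, Cfsg.hermForm, Function.comp_apply]
    rw [← e.sum_comp]
    simp [σ, conjHom_apply]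
  have hc1 : c = 1 := by
    have h := hform (Pi.single 0 1) (Pi.single 0 1)
    have hone : Cfsg.hermForm 9 F 2 (Pi.single 0 (1 : F)) (Pi.single 0 1) = 1 := by
      rw [Cfsg.hermForm, Finset.sum_eq_single (0 : Fin 9) (fun i _ hi => by simp [hi]) (by simp)]
      simp
    rw [hone, mul_one] at h
    have h2 := hermForm_self_fixed hF ((P' : Matrix (Fin 9) (Fin 9) F) *ᵥ Pi.single 0 1)
    rw [h] at h2
    exact mul_left_cancel₀ hc0 (by rw [mul_one, ← pow_two]; exact h2)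
  have hP : P' ∈ Cfsg.GU 9 F 2 := fun x y => (hform x y).trans (by rw [hc1, one_mul])
  have hiff : ∀ a b : GL (Fin 3) F, glReindex e.symm (kr (a, b)) ∈ Cfsg.GU 9 F 2 ↔
      ((a : Matrix (Fin 3) (Fin 3) F)ᵀ * (a : Matrix (Fin 3) (Fin 3) F).map σ) ⊗ₖ
        ((b : Matrix (Fin 3) (Fin 3) F)ᵀ * (b : Matrix (Fin 3) (Fin 3) F).map σ) = 1 := by
    intro a b
    rw [mem_GU_iff hF]
    have hval : ((glReindex e.symm (kr (a, b)) : GL (Fin 9) F) : Matrix (Fin 9) (Fin 9) F) =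
        ((a : Matrix (Fin 3) (Fin 3) F) ⊗ₖ (b : Matrix (Fin 3) (Fin 3) F)).submatrix e e := rfl
    rw [hval, Matrix.transpose_submatrix, ← Matrix.submatrix_map, Matrix.submatrix_mul_equiv]
    rw [Matrix.mul_kronecker_mul]
    have hm : ((a : Matrix (Fin 3) (Fin 3) F) ⊗ₖ (b : Matrix (Fin 3) (Fin 3) F)).map σ =
        (a : Matrix (Fin 3) (Fin 3) F).map σ ⊗ₖ (b : Matrix (Fin 3) (Fin 3) F).map σ := by
      ext; simp
    have ht : ((a : Matrix (Fin 3) (Fin 3) F) ⊗ₖ (b : Matrix (Fin 3) (Fin 3) F))ᵀ =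
        (a : Matrix (Fin 3) (Fin 3) F)ᵀ ⊗ₖ (b : Matrix (Fin 3) (Fin 3) F)ᵀ := by
      ext; simp
    rw [hm, ht]
    constructor
    · intro h
      have h' := congrArg (fun m : Matrix (Fin 9) (Fin 9) F => m.submatrix e.symm e.symm) h
      simpa [Matrix.submatrix_submatrix] using h'
    · intro h
      rw [h, Matrix.submatrix_one_equiv]
  refine ⟨P', fun a b ha hb => ⟨?_, ?_⟩, fun g hg => ?_⟩
  · rw [emb, MonoidHom.comp_apply, MonoidHom.comp_apply]
    refine (Cfsg.GU 9 F 2).mul_mem ((Cfsg.GU 9 F 2).mul_mem hP ((hiff a b).2 ?_)) ((Cfsg.GU 9 F 2).inv_mem hP)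
    rw [(mem_GU_iff hF a).1 ha, (mem_GU_iff hF b).1 hb, Matrix.one_kronecker_one]
  · have h3 : ∀ d : GL (Fin 3) F, Matrix.det (d : Matrix (Fin 3) (Fin 3) F) ^ 3 = 1 := fun d =>
      GUThreeFour.pow_three (by simpa using hF) (((Matrix.isUnit_iff_isUnit_det _).1 d.isUnit).ne_zero)
    refine MonoidHom.mem_ker.2 (Units.ext ?_)
    rw [Matrix.GeneralLinearGroup.val_det_apply, Units.val_one]
    rw [emb_val, Matrix.det_mul, Matrix.det_mul, Matrix.det_submatrix_equiv_self, Matrix.det_kronecker,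
      Fintype.card_fin, h3, h3, mul_one, mul_one, ← Matrix.det_mul, Units.mul_inv, Matrix.det_one]
  obtain ⟨a, b, rfl⟩ := mem_tensor_iff e P hg.1
  have heq : emb e P (a, b) = emb e P' (B1⁻¹ * a * B1, B2⁻¹ * b * B2) := by
    have hk : kr (a, b) = kr (B1, B2) * kr (B1⁻¹ * a * B1, B2⁻¹ * b * B2) * (kr (B1, B2))⁻¹ := by
      rw [← map_inv kr, ← map_mul kr, ← map_mul kr]
      simp [mul_assoc]
    simp only [emb, MonoidHom.comp_apply, MulEquiv.coe_toMonoidHom, MulAut.conj_apply, hP']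
    rw [hk, map_mul, map_mul, map_inv]
    group
  have hgU : emb e P' (B1⁻¹ * a * B1, B2⁻¹ * b * B2) ∈ Cfsg.GU 9 F 2 := heq ▸ hg.2
  refine ⟨(B1⁻¹ * a * B1, B2⁻¹ * b * B2), ?_, heq.symm⟩
  generalize B1⁻¹ * a * B1 = a', B2⁻¹ * b * B2 = b' at hgU ⊢
  have hmid : glReindex e.symm (kr (a', b')) ∈ Cfsg.GU 9 F 2 := by
    have h := mul_mem (mul_mem (inv_mem hP) hgU) hP
    simpa [emb, mul_assoc] using h
  have hk := (hiff a' b').1 hmid
  set A := (a' : Matrix (Fin 3) (Fin 3) F)ᵀ * (a' : Matrix (Fin 3) (Fin 3) F).map σ with hA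
  set B := (b' : Matrix (Fin 3) (Fin 3) F)ᵀ * (b' : Matrix (Fin 3) (Fin 3) F).map σ with hB
  have hent : ∀ i j k l, A i k * B j l = if (i, j) = (k, l) then 1 else 0 := fun i j k l => by
    have h := congrFun (congrFun hk (i, j)) (k, l)
    rwa [Matrix.kronecker_apply, Matrix.one_apply] at h
  have h00 : A 0 0 * B 0 0 = 1 := by simpa using hent 0 0 0 0
  have hA00 : A 0 0 = 1 := by
    have hne : A 0 0 ≠ 0 := left_ne_zero_of_mul (h00.trans_ne one_ne_zero)
    have hfix : A 0 0 ^ 2 = A 0 0 := by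
      rw [← conjHom_apply hF, hA]
      simp only [Matrix.mul_apply, Matrix.transpose_apply, Matrix.map_apply, map_sum, map_mul, σ, conjHom_conjHom]
      exact Finset.sum_congr rfl fun k _ => mul_comm _ _
    exact mul_left_cancel₀ hne (by rw [mul_one, ← pow_two]; exact hfix)
  have hB00 : B 0 0 = 1 := by rwa [hA00, one_mul] at h00
  refine Subgroup.mem_prod.2 ⟨(mem_GU_iff hF a').2 (Matrix.ext fun i k => ?_),
    (mem_GU_iff hF b').2 (Matrix.ext fun j l => ?_)⟩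
  · have h := hent i 0 k 0
    rw [hB00, mul_one] at h
    rw [← hA, h, Matrix.one_apply]
    simp
  · have h := hent 0 j 0 l
    rw [hA00, one_mul] at h
    rw [← hB, h, Matrix.one_apply]
    simp

end PairTwo

open PairTwo

variable {F : Type*} [Field F] [Fintype F] {q : ℕ}

theorem perfect_eq_bot (hF : Fintype.card F = q ^ 2) (hq : q = 2) {e : Fin 9 ≃ Fin 3 × Fin 3}
    {P : GL (Fin 9) F} {f1 f2 : (Fin 3 → F) → (Fin 3 → F) → F} (h1 : IsUnitaryFormPow q f1)
    (h2 : IsUnitaryFormPow q f2) (hs : IsTensorFormStructure (fun x : F => x ^ q) (Cfsg.hermForm 9 F q) f1 f2 e P)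
    {M : Subgroup (GL (Fin 9) F)} (hM : M ≤ tensorProductSubgroup 3 3 e P ⊓ Cfsg.GU 9 F q) (hperf : ⁅M, M⁆ = M) :
    M = ⊥ := by
  subst hq
  obtain ⟨P', -, hle⟩ := exists_frame hF h1 h2 hs
  haveI := GUThreeFour.solvable hF
  let f : Cfsg.GU 3 F 2 × Cfsg.GU 3 F 2 →* GL (Fin 9) F :=
    (emb e P').comp ((Cfsg.GU 3 F 2).subtype.prodMap (Cfsg.GU 3 F 2).subtype)
  have hMf : M ≤ f.range := by
    intro x hx
    obtain ⟨⟨a, b⟩, hab, rfl⟩ := hle (hM hx)
    exact ⟨(⟨a, hab.1⟩, ⟨b, hab.2⟩), rfl⟩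
  haveI : Group.IsSolvable f.range := solvable_of_surjective f.rangeRestrict_surjective
  haveI : Group.IsSolvable M := Group.isSolvable_of_isSolvable_injective (Subgroup.inclusion_injective hMf)
  by_contra hne
  haveI : Nontrivial M := M.nontrivial_iff_ne_bot.2 hne
  have h := IsSolvable.commutator_lt_top_of_nontrivial M
  refine h.ne (Subgroup.map_injective M.subtype_injective ?_)
  rw [_root_.commutator_def, Subgroup.map_commutator, ← MonoidHom.range_eq_map, Subgroup.range_subtype, hperf]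

theorem symplectic_data (hF : Fintype.card F = q ^ 2) (hq : q = 2) {e : Fin 9 ≃ Fin 3 × Fin 3}
    {P : GL (Fin 9) F} {f1 f2 : (Fin 3 → F) → (Fin 3 → F) → F} (h1 : IsUnitaryFormPow q f1)
    (h2 : IsUnitaryFormPow q f2) (hs : IsTensorFormStructure (fun x : F => x ^ q) (Cfsg.hermForm 9 F q) f1 f2 e P) :
    ∃ R : Subgroup (GL (Fin 9) F), R ≤ omegaU 9 F q ∧ Cfsg.Agent.Lib.LinNine.Data 3 R ∧
      ∀ h ∈ tensorProductSubgroup 3 3 e P ⊓ omegaU 9 F q, ∀ x ∈ R, h * x * h⁻¹ ∈ R := by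
  classical
  subst hq
  obtain ⟨w, hw⟩ := GUThreeFour.exists_root (F := F) (by simpa using hF)
  obtain ⟨P', hU, hle⟩ := exists_frame hF h1 h2 hs
  set E := emb e P' with hE
  set X := GUThreeFour.X hw
  have hX : X ∈ Cfsg.GU 3 F 2 := GUThreeFour.X_mem hF hw
  let S : Set (GL (Fin 9) F) := {g | ∃ a ∈ Cfsg.GU 3 F 2, g = E (a * X * a⁻¹, 1) ∨ g = E (1, a * X * a⁻¹)}
  have hRle : Subgroup.closure S ≤ omegaU 9 F 2 := (Subgroup.closure_le _).2 (by
    rintro g ⟨a, ha, rfl | rfl⟩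
    · exact hU _ _ (mul_mem (mul_mem ha hX) (inv_mem ha)) (one_mem _)
    · exact hU _ _ (one_mem _) (mul_mem (mul_mem ha hX) (inv_mem ha)))
  have hEs : ∀ (u v u' v' : GL (Fin 3) F) (c d : F),
      (u : Matrix (Fin 3) (Fin 3) F) = c • (u' : Matrix (Fin 3) (Fin 3) F) →
      (v : Matrix (Fin 3) (Fin 3) F) = d • (v' : Matrix (Fin 3) (Fin 3) F) →
      ((E (u, v) : GL (Fin 9) F) : Matrix (Fin 9) (Fin 9) F) = (c * d) • ((E (u', v') : GL (Fin 9) F) : Matrix (Fin 9) (Fin 9) F) := by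
    intro u v u' v' c d hu hv
    rw [hE, emb_val, emb_val, hu, hv, Matrix.smul_kronecker, Matrix.kronecker_smul, smul_smul, Matrix.submatrix_smul,
      Pi.smul_apply, Pi.smul_apply, Matrix.mul_smul, Matrix.smul_mul]
  let Rel : GL (Fin 9) F → GL (Fin 9) F → Prop := fun g h =>
    ∃ c : F, ((g * h : GL (Fin 9) F) : Matrix (Fin 9) (Fin 9) F) = c • ((h * g : GL (Fin 9) F) : Matrix (Fin 9) (Fin 9) F)
  have hgen : ∀ g ∈ S, ∀ h ∈ S, Rel g h := by
    have hone : ((1 : GL (Fin 3) F) : Matrix (Fin 3) (Fin 3) F) = (1 : F) • ((1 : GL (Fin 3) F) : Matrix (Fin 3) (Fin 3) F) :=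
      (one_smul _ _).symm
    rintro g ⟨a, ha, rfl | rfl⟩ h ⟨b, hb, rfl | rfl⟩
    · obtain ⟨c, hc⟩ := GUThreeFour.conj_conj_rel hF hw ha hb
      exact ⟨c * 1, by simpa only [X, ← map_mul, Prod.mk_mul_mk, mul_one] using hEs _ _ _ _ c 1 hc hone⟩
    · exact ⟨1, by simp only [← map_mul, Prod.mk_mul_mk, one_mul, mul_one, one_smul]⟩
    · exact ⟨1, by simp only [← map_mul, Prod.mk_mul_mk, one_mul, mul_one, one_smul]⟩
    · obtain ⟨c, hc⟩ := GUThreeFour.conj_conj_rel hF hw ha hb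
      exact ⟨1 * c, by simpa only [X, ← map_mul, Prod.mk_mul_mk, mul_one, one_mul] using hEs _ _ _ _ 1 c hone hc⟩
  have hne : ∀ (c : F) (g h : GL (Fin 9) F),
      (g : Matrix (Fin 9) (Fin 9) F) = c • (h : Matrix (Fin 9) (Fin 9) F) → c ≠ 0 := by
    rintro c g h e rfl
    rw [zero_smul] at e
    exact g.ne_zero e
  have hsymm : ∀ g h, Rel g h → Rel h g := by
    rintro g h ⟨c, hc⟩
    exact ⟨c⁻¹, by rw [hc, smul_smul, inv_mul_cancel₀ (hne _ _ _ hc), one_smul]⟩
  have hext : ∀ g, (∀ h ∈ S, Rel g h) → ∀ h ∈ Subgroup.closure S, Rel g h := by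
    intro g hg h hh
    induction hh using Subgroup.closure_induction with
    | mem x hx => exact hg x hx
    | one => exact ⟨1, by simp⟩
    | mul x y _ _ hx hy =>
      obtain ⟨c, hc⟩ := hx
      obtain ⟨d, hd⟩ := hy
      refine ⟨c * d, ?_⟩
      simp only [Units.val_mul] at hc hd ⊢
      rw [← mul_assoc, hc, smul_mul_assoc, mul_assoc, hd, mul_smul_comm, smul_smul, ← mul_assoc]
    | inv x _ hx =>
      obtain ⟨c, hc⟩ := hx
      refine ⟨c⁻¹, ?_⟩
      have h' := congrArg (fun m => ((x⁻¹ : GL (Fin 9) F) : Matrix (Fin 9) (Fin 9) F) * m *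
        ((x⁻¹ : GL (Fin 9) F) : Matrix (Fin 9) (Fin 9) F)) hc
      simp only [Matrix.mul_smul, Matrix.smul_mul, ← Units.val_mul] at h'
      simp only [mul_assoc, mul_inv_cancel, inv_mul_cancel_left, mul_one, mul_inv_cancel_left] at h'
      rw [h', smul_smul, inv_mul_cancel₀ (hne _ _ _ hc), one_smul]
  have hall : ∀ g ∈ Subgroup.closure S, ∀ h ∈ Subgroup.closure S, Rel g h := fun g hg =>
    hext g fun s hsS => hsymm _ _ (hext s (hgen s hsS) g hg)
  have hexp : ∀ g ∈ Subgroup.closure S, g ^ 3 = 1 := by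
    intro g hg
    induction hg using Subgroup.closure_induction with
    | mem x hx =>
      obtain ⟨a, ha, rfl | rfl⟩ := hx <;>
        rw [← map_pow, Prod.pow_mk, one_pow, conj_pow, GUThreeFour.X_pow_three, mul_one, mul_inv_cancel, ← Prod.one_eq_mk,
          map_one]
    | one => exact one_pow _
    | mul x y hx hy hx3 hy3 =>
      obtain ⟨c, hc⟩ := hall y hy x hx
      have hc3 : c ^ 3 = 1 := GUThreeFour.pow_three (by simpa using hF) (hne _ _ _ hc)
      apply Units.ext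
      have hx3' := congrArg Units.val hx3
      have hy3' := congrArg Units.val hy3
      simp only [Units.val_pow_eq_pow_val, Units.val_mul, Units.val_one] at hc hx3' hy3' ⊢
      generalize (x : Matrix (Fin 9) (Fin 9) F) = a, (y : Matrix (Fin 9) (Fin 9) F) = b at hc hx3' hy3' ⊢
      calc (a * b) ^ 3 = a * (b * a) * (b * a) * b := by simp [pow_succ, mul_assoc]
        _ = (c * c) • (a * (a * b) * (a * b) * b) := by
          rw [hc]; simp only [Matrix.mul_smul, Matrix.smul_mul, smul_smul]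
        _ = (c * c) • (a * a * (b * a) * (b * b)) := by simp [mul_assoc]
        _ = c ^ 3 • (a * a * (a * b) * (b * b)) := by
          rw [hc]; simp only [Matrix.mul_smul, Matrix.smul_mul, smul_smul]; ring_nf
        _ = c ^ 3 • (a ^ 3 * b ^ 3) := by simp [pow_succ, mul_assoc]
        _ = 1 := by rw [hx3', hy3', hc3, one_mul, one_smul]
    | inv x _ hx => rw [inv_pow, hx, inv_one]
  obtain ⟨a, ha, c, hc, hrel⟩ := GUThreeFour.exists_pair hF hw
  set u := a * X * a⁻¹ with hu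
  have hquad : Cfsg.Agent.Lib.LinNine.Quad 3 c (E (X, 1)) (E (u, 1)) (E (1, X)) (E (1, u)) := by
    have hone : ((1 : GL (Fin 3) F) : Matrix (Fin 3) (Fin 3) F) = (1 : F) • ((1 : GL (Fin 3) F) : Matrix (Fin 3) (Fin 3) F) :=
      (one_smul _ _).symm
    have hrel' : ((X * u : GL (Fin 3) F) : Matrix (Fin 3) (Fin 3) F) = c • ((u * X : GL (Fin 3) F) : Matrix (Fin 3) (Fin 3) F) := hrel
    refine ⟨by simp, ⟨Nat.prime_three, hc, ?_⟩, ⟨Nat.prime_three, hc, ?_⟩, ?_, ?_, ?_, ?_⟩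
    · have h := hEs _ _ _ _ c 1 hrel' hone
      rw [mul_one] at h
      simpa only [← Units.val_mul, ← map_mul, Prod.mk_mul_mk, mul_one] using h
    · have h := hEs _ _ _ _ 1 c hone hrel'
      rw [one_mul] at h
      simpa only [← Units.val_mul, ← map_mul, Prod.mk_mul_mk, mul_one] using h
    all_goals (rw [commute_iff_eq, ← map_mul, ← map_mul, Prod.mk_mul_mk, Prod.mk_mul_mk]; simp)
  have hmem : E (X, 1) ∈ Subgroup.closure S ∧ E (u, 1) ∈ Subgroup.closure S ∧ E (1, X) ∈ Subgroup.closure S ∧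
      E (1, u) ∈ Subgroup.closure S :=
    ⟨Subgroup.subset_closure ⟨1, one_mem _, Or.inl (by simp)⟩, Subgroup.subset_closure ⟨a, ha, Or.inl rfl⟩,
      Subgroup.subset_closure ⟨1, one_mem _, Or.inr (by simp)⟩, Subgroup.subset_closure ⟨a, ha, Or.inr rfl⟩⟩
  refine ⟨Subgroup.closure S, hRle, ⟨by simp, Nat.prime_three, fun z hz _ => hexp z hz, ?_, hexp, ?_⟩, ?_⟩
  · intro g hg h hh
    obtain ⟨d, hd⟩ := hall g hg h hh
    refine Cfsg.Agent.Lib.PrimeDim.SympType.val_mem_scalars_iff.2 ⟨d, ?_⟩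
    have h' := congrArg (fun m : Matrix (Fin 9) (Fin 9) F => m * (((h * g)⁻¹ : GL (Fin 9) F) : Matrix (Fin 9) (Fin 9) F)) hd
    simp only [Matrix.smul_mul, ← Units.val_mul, mul_inv_cancel, Units.val_one] at h'
    rw [show g * h * g⁻¹ * h⁻¹ = g * h * (h * g)⁻¹ by group]
    exact h'
  · have hspan : ∀ Z : Matrix (Fin 9) (Fin 9) F, ∀ A : Subalgebra F (Matrix (Fin 9) (Fin 9) F),
        (∀ g ∈ Subgroup.closure S, (g : Matrix (Fin 9) (Fin 9) F) ∈ A) → Z ∈ A := by
      intro Z A hA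
      have h : Z ∈ Submodule.span F _ := hquad.span_eq_top ▸ Submodule.mem_top
      refine (Submodule.span_le (p := Subalgebra.toSubmodule A)).2 ?_ h
      rintro _ ⟨t, rfl⟩
      exact A.mul_mem (A.mul_mem (A.pow_mem (hA _ hmem.1) _) (A.pow_mem (hA _ hmem.2.1) _))
        (A.mul_mem (A.pow_mem (hA _ hmem.2.2.1) _) (A.pow_mem (hA _ hmem.2.2.2) _))
    constructor
    · rw [Cfsg.Agent.Lib.KnownA.PrimeDim.actsIrreducibly_iff]
      intro W hW
      by_cases h0 : W = ⊥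
      · exact Or.inl h0
      right
      obtain ⟨v, hv, hv0⟩ := W.ne_bot_iff.1 h0
      obtain ⟨i, hi⟩ := Function.ne_iff.1 hv0
      let A : Subalgebra F (Matrix (Fin 9) (Fin 9) F) :=
        { carrier := {M | ∀ x ∈ W, M *ᵥ x ∈ W}
          mul_mem' := fun {M N} hM hN x hx => by rw [← Matrix.mulVec_mulVec]; exact hM _ (hN x hx)
          one_mem' := fun x hx => by rwa [Matrix.one_mulVec]
          add_mem' := fun {M N} hM hN x hx => by rw [Matrix.add_mulVec]; exact W.add_mem (hM x hx) (hN x hx)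
          zero_mem' := fun x hx => by rw [Matrix.zero_mulVec]; exact W.zero_mem
          algebraMap_mem' := fun r x hx => by
            rw [Algebra.algebraMap_eq_smul_one, Matrix.smul_mulVec, Matrix.one_mulVec]; exact W.smul_mem r hx }
      refine eq_top_iff.2 fun y _ => ?_
      have h := hspan (Matrix.vecMulVec y (Pi.single i (v i)⁻¹)) A (fun g hg => hW g hg) v hv
      rwa [Matrix.vecMulVec_mulVec, single_dotProduct, inv_mul_cancel₀ hi, MulOpposite.op_one, one_smul] at h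
    · intro M hM
      let A : Subalgebra F (Matrix (Fin 9) (Fin 9) F) := Subalgebra.centralizer F {M}
      have hall' : ∀ Z, Commute Z M := fun Z =>
        ((Subalgebra.mem_centralizer_iff F).1 (hspan Z A fun g hg => (Subalgebra.mem_centralizer_iff F).2 fun m hm => by
          rw [Set.mem_singleton_iff.1 hm]; exact hM _ ⟨g, hg, rfl⟩) M rfl).symm
      obtain ⟨d, hd⟩ := Matrix.mem_range_scalar_of_commute_single (M := M) (fun i j _ => hall' _)
      exact ⟨d, by rw [← hd, Matrix.scalar_apply, Matrix.smul_one_eq_diagonal]⟩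
  · intro h hh x hx
    obtain ⟨⟨a, b⟩, hab, rfl⟩ := hle ⟨hh.1, hh.2.1⟩
    induction hx using Subgroup.closure_induction with
    | mem x hx =>
      obtain ⟨t, ht, rfl | rfl⟩ := hx <;> rw [← map_inv, ← map_mul, ← map_mul]
      · exact Subgroup.subset_closure ⟨a * t, mul_mem hab.1 ht, Or.inl (by simp [mul_assoc, hE])⟩
      · exact Subgroup.subset_closure ⟨b * t, mul_mem hab.2 ht, Or.inr (by simp [mul_assoc, hE])⟩
    | one => simp
    | mul x y _ _ hx hy =>
      have := mul_mem hx hy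
      simpa [mul_assoc] using this
    | inv x _ hx =>
      have := inv_mem hx
      simpa [mul_assoc] using this

end Cfsg.Agent.Lib.UnitNine
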