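import Cfsg.Agent.Lib.UnitMax.Geom

/-!
A field subalgebra of degree nine contains a normalised one of degree three, with its description.
-/

set_option autoImplicit false

namespace Cfsg.Agent.Lib.UnitNine

open Cfsg.Geo
open scoped Matrix MatrixGroups

theorem subfield_three {F : Type*} [Field F] [Fintype F]
    (K : Subalgebra F (Matrix (Fin 9) (Fin 9) F)) (hK : IsFieldSubalgebra 9 K) :
    ∃ L : Subalgebra F (Matrix (Fin 9) (Fin 9) F), IsFieldSubalgebra 3 L ∧
      subalgebraNormalizer K ≤ subalgebraNormalizer L ∧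
      ∀ x, x ∈ L ↔ x ∈ K ∧ x ^ (Fintype.card F ^ 3) = x := by
  classical
  obtain ⟨p, hp⟩ := CharP.exists F
  obtain ⟨a, hpp, ha⟩ := FiniteField.card F p
  haveI : Fact p.Prime := ⟨hpp⟩
  haveI : CharP (Matrix (Fin 9) (Fin 9) F) p :=
    charP_of_injective_algebraMap (algebraMap F (Matrix (Fin 9) (Fin 9) F)).injective p
  set q := Fintype.card F with hq
  set Q := q ^ 3 with hQ
  have hq1 : 1 < q := Fintype.one_lt_card
  have hQ1 : 1 < Q := Nat.one_lt_pow (by norm_num) hq1
  have hadd : ∀ x y : Matrix (Fin 9) (Fin 9) F, Commute x y → (x + y) ^ Q = x ^ Q + y ^ Q := by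
    intro x y h
    rw [hQ, ha, ← pow_mul]
    exact add_pow_char_pow_of_commute (p := p) (h := h) ..
  have hscal : ∀ c : F, c ^ Q = c := fun c => FiniteField.pow_card_pow 3 c
  let L : Subalgebra F (Matrix (Fin 9) (Fin 9) F) :=
    { carrier := {x | x ∈ K ∧ x ^ Q = x}
      mul_mem' := fun {x y} hx hy =>
        ⟨K.mul_mem hx.1 hy.1, by rw [Commute.mul_pow (hK.comm x hx.1 y hy.1), hx.2, hy.2]⟩
      one_mem' := ⟨K.one_mem, one_pow _⟩
      add_mem' := fun {x y} hx hy =>
        ⟨K.add_mem hx.1 hy.1, by rw [hadd x y (hK.comm x hx.1 y hy.1), hx.2, hy.2]⟩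
      zero_mem' := ⟨K.zero_mem, zero_pow (by omega)⟩
      algebraMap_mem' := fun c => ⟨K.algebraMap_mem c, by rw [← map_pow, hscal]⟩ }
  have hmem : ∀ x, x ∈ L ↔ x ∈ K ∧ x ^ Q = x := fun _ => Iff.rfl
  letI : CommRing K :=
    { (inferInstance : Ring K) with mul_comm := fun x y => Subtype.ext (hK.comm _ x.2 _ y.2) }
  haveI : Fintype K := Fintype.ofFinite K
  have hfield : IsField K :=
    { exists_pair_ne := ⟨0, 1, fun e => zero_ne_one (congrArg Subtype.val e)⟩
      mul_comm := mul_comm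
      mul_inv_cancel := fun {x} hx => by
        obtain ⟨y, hy, hxy⟩ := hK.inv x x.2 fun e => hx (Subtype.ext e)
        exact ⟨⟨y, hy⟩, Subtype.ext hxy⟩ }
  letI : Field K := hfield.toField
  have hKc : Nat.card K = q ^ 9 := by
    rw [Module.natCard_eq_pow_finrank (K := F), hK.finrank_eq, Nat.card_eq_fintype_card]
  have hker : Nat.card (powMonoidHom (Q - 1) : Kˣ →* Kˣ).ker = Q - 1 := by
    rw [IsCyclic.card_powMonoidHom_ker, Nat.card_units, hKc, hQ]
    refine Nat.gcd_eq_right ?_
    have h := Nat.sub_dvd_pow_sub_pow (q ^ 3) 1 3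
    rwa [one_pow, ← pow_mul] at h
  have hLc : Nat.card L = Q := by
    let e : {x : L // x ≠ 0} ≃ (powMonoidHom (Q - 1) : Kˣ →* Kˣ).ker :=
      { toFun := fun x => ⟨Units.mk0 (⟨x.1.1, x.1.2.1⟩ : K)
            (fun e => x.2 (Subtype.ext (congrArg Subtype.val e :))), by
          rw [MonoidHom.mem_ker, powMonoidHom_apply]
          apply Units.ext
          rw [Units.val_pow_eq_pow_val, Units.val_mk0, Units.val_one]
          have h0 : (⟨x.1.1, x.1.2.1⟩ : K) ≠ 0 :=
            fun e => x.2 (Subtype.ext (congrArg Subtype.val e :))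
          apply mul_left_cancel₀ h0
          rw [mul_one, ← pow_succ', Nat.sub_add_cancel hQ1.le]
          exact Subtype.ext x.1.2.2⟩
        invFun := fun u => ⟨⟨((u.1 : K) : Matrix (Fin 9) (Fin 9) F), ((u.1 : Kˣ) : K).2, by
            have h := u.2
            rw [MonoidHom.mem_ker, powMonoidHom_apply] at h
            have h' : (u.1 : K) ^ Q = (u.1 : K) := by
              calc (u.1 : K) ^ Q = (u.1 : K) ^ (Q - 1 + 1) :=
                    congrArg (fun m => (u.1 : K) ^ m) (Nat.sub_add_cancel hQ1.le).symm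
                _ = (u.1 : K) := by rw [pow_succ, ← Units.val_pow_eq_pow_val, h, Units.val_one, one_mul]
            exact congrArg Subtype.val h'⟩,
          fun e => u.1.ne_zero (Subtype.ext (congrArg Subtype.val e :))⟩
        left_inv := fun x => rfl
        right_inv := fun u => Subtype.ext (Units.ext rfl) }
    have h1 : Nat.card {x : L // x ≠ 0} = Q - 1 := (Nat.card_congr e).trans hker
    have h2 : Nat.card L = Nat.card {x : L // x ≠ 0} + 1 := by
      rw [Nat.card_congr (Equiv.optionSubtypeNe (0 : L)).symm, Finite.card_option]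
    omega
  refine ⟨L, ⟨fun x hx y hy => hK.comm x hx.1 y hy.1, fun x hx hx0 => ?_, ?_⟩, fun g hg => ?_, hmem⟩
  · obtain ⟨y, hy, hxy⟩ := hK.inv x hx.1 hx0
    refine ⟨y, ⟨hy, ?_⟩, hxy⟩
    have hc := hK.comm x hx.1 y hy
    calc y ^ Q = (x * y) * y ^ Q := by rw [hxy, one_mul]
      _ = y * (x * y ^ Q) := by rw [hc, mul_assoc]
      _ = y * (x ^ Q * y ^ Q) := by rw [hx.2]
      _ = y := by rw [← Commute.mul_pow hc, hxy, one_pow, mul_one]
  · have h := Module.natCard_eq_pow_finrank (K := F) (V := L)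
    rw [hLc, hQ, Nat.card_eq_fintype_card (α := F)] at h
    exact (Nat.pow_right_injective hq1 h).symm
  · intro k
    set G := (g : Matrix (Fin 9) (Fin 9) F)
    set G' := ((g⁻¹ : GL (Fin 9) F) : Matrix (Fin 9) (Fin 9) F)
    have hpow : (G * k * G') ^ Q = G * k ^ Q * G' := Units.conj_pow g k Q
    rw [hmem, hmem, hg k, hpow]
    refine and_congr_right fun _ => ⟨fun h => by rw [h], fun h => ?_⟩
    exact g.isUnit.mul_left_cancel (g⁻¹.isUnit.mul_right_cancel h)

end Cfsg.Agent.Lib.UnitNine
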