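import Cfsg.Agent.Lib.UnitNine.Defs
import Cfsg.Agent.Lib.UnitNine.Sub
import Cfsg.Agent.Lib.UnitMax.Forms
import Cfsg.Agent.Lib.LinNine.ClassTwo
import Cfsg.Agent.Lib.KnownA.PrimeDim.Schur

/-!
Steps for the maximal subgroups of `SU_9(q)`: centres of commutants, cores, groups of symplectic type.
-/

set_option autoImplicit false
set_option linter.style.haveILetI false
set_option linter.unusedSimpArgs false

namespace Cfsg.Agent.Lib.UnitNine

open Matrix Module Cfsg.Geo
open scoped MatrixGroups Matrix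
open Cfsg.Agent.Lib
open Cfsg.Agent.Lib.UnitPrimeDim (omegaU)
open Cfsg.Agent.Lib.TwoPrimeDim (centre mem_centre Blocks)
open Cfsg.Agent.Lib.UnitMax (eq_inf adj adj_spec adj_mem_centre)
open Cfsg.Agent.Lib.KnownA.PrimeDim (Norms)

variable {F : Type*} [Field F] [Fintype F] {q : ℕ}

local notation "G9" => GL (Fin 9) F
local notation "M9" => Matrix (Fin 9) (Fin 9) F

theorem le_GU {H : Subgroup G9} (hH : IsMaximalIn (omegaU 9 F q) H) : H ≤ Cfsg.GU 9 F q :=
  fun _ h => (hH.1.le h).1

theorem le_SL {H : Subgroup G9} (hH : IsMaximalIn (omegaU 9 F q) H) : H ≤ specialLinear (Fin 9) F :=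
  fun _ h => (hH.1.le h).2

theorem le_normalizer_of_norms {H R : Subgroup G9} (hn : Norms H R) : H ≤ subgroupNormalizer R :=
  hn.le_normalizer

/-- Case five from a field subalgebra of degree three. -/
theorem field_case (hF : Fintype.card F = q ^ 2) {H : Subgroup G9} (hH : IsMaximalIn (omegaU 9 F q) H)
    {K : Subalgebra F M9} (hK : IsFieldSubalgebra 3 K) (hadj : IsAdjointClosedFor (Cfsg.hermForm 9 F q) K)
    (hle : H ≤ subalgebraNormalizer K) : Cases q H := by
  refine Or.inr (Or.inr (Or.inr (Or.inr (Or.inl ⟨K, hK, hadj, eq_inf hH hle ?_⟩))))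
  exact UnitPrimeDim.not_le_subalgebraNormalizer hF (by norm_num) (r := 3) (by norm_num) K hK

/-- An irreducible maximal subgroup outside the geometric classes has scalar centres of commutants. -/
theorem centre_scalar (hF : Fintype.card F = q ^ 2) {H : Subgroup G9} (hH : IsMaximalIn (omegaU 9 F q) H)
    (hirr : ActsIrreducibly (matrixSet H)) (hno : ¬ Cases q H) {N : Subgroup G9} (hNH : N ≤ H)
    (hnorm : Norms H N) : ∀ x ∈ centre N, ∃ c : F, x = c • (1 : M9) := by
  have hGU : N ≤ Cfsg.GU 9 F q := hNH.trans (le_GU hH)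
  rcases TwoPrimeDim.centre_cases hirr hnorm with ⟨r, hr, hK⟩ | ⟨t, w, e, hB⟩
  · obtain ⟨hodd, hadj⟩ := UnitMax.field_odd hF hGU hK (by norm_num)
    have hcases : r = 1 ∨ r = 3 ∨ r = 9 := by
      rw [Fintype.card_fin] at hr
      have := Nat.le_of_dvd (by norm_num) hr
      interval_cases r <;> simp_all (config := {decide := true})
    have hnK : H ≤ subalgebraNormalizer (centre N) := fun g hg => TwoPrimeDim.centre_normalized hnorm hg
    rcases hcases with rfl | rfl | rfl
    · intro x hx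
      have h1 : (1 : M9) ∈ centre N := Subalgebra.one_mem _
      obtain ⟨c, hc⟩ := exists_smul_eq_of_finrank_eq_one (V := centre N) hK.finrank_eq
        (x := ⟨1, h1⟩) (fun h => one_ne_zero (α := M9) (congrArg Subtype.val h)) ⟨x, hx⟩
      exact ⟨c, by simpa using (congrArg Subtype.val hc).symm⟩
    · exact absurd (field_case hF hH hK hadj hnK) hno
    · obtain ⟨L, hL, hLn, hLmem⟩ := subfield_three (centre N) hK
      refine absurd (field_case hF hH hL ?_ (hnK.trans hLn)) hno
      intro k hk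
      obtain ⟨hkK, hkQ⟩ := (hLmem k).1 hk
      refine ⟨adj hF k, (hLmem _).2 ⟨adj_mem_centre hF hGU hkK, ?_⟩, adj_spec hF k⟩
      conv_rhs => rw [← hkQ]
      have hp : ∀ m : ℕ, adj hF (k ^ m) = adj hF k ^ m := by
        intro m
        induction m with
        | zero => simp [adj]
        | succ m ih => rw [pow_succ, UnitMax.adj_mul, ih, pow_succ']
      rw [hp]
  · exfalso
    apply hno
    rcases UnitMax.blocks_cases hF (le_GU hH) hNH hB with ⟨s, m, D, hD, hsm, hle⟩ | ⟨m, D, hm, -⟩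
    swap
    · omega
    have hp := UnitMax.not_le_decompositionStabilizer hF (by norm_num) hD.decomp (q := q)
    have h2 := hD.decomp.two_le
    have hm0 := hD.decomp.pos
    have hs9 : s ≤ 9 := Nat.le_of_dvd (by norm_num) ⟨m, hsm.symm⟩
    interval_cases s <;> try omega
    · obtain rfl : m = 3 := by omega
      exact Or.inr (Or.inr (Or.inr (Or.inl ⟨D, hD, eq_inf hH hle hp⟩)))
    · obtain rfl : m = 1 := by omega
      exact Or.inr (Or.inr (Or.inl ⟨D, hD, eq_inf hH hle hp⟩))

/-- No symplectic form in dimension nine. -/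
theorem no_alt {X : M9} (hskew : ∀ a b, X a b = -X b a) (hd : ∀ a, X a a = 0) : X.det = 0 := by
  by_cases h2 : (2 : F) = 0
  · refine PrimeDim.FormDescent.det_alt_char_two h2 (by rw [Fintype.card_fin]; exact ⟨4, rfl⟩) X ?_ hd
    ext a b
    rw [Matrix.transpose_apply, hskew b a]
    linear_combination (-(X a b)) * h2
  · have ht : Xᵀ = -X := by ext a b; exact hskew b a
    have hdet := congrArg Matrix.det ht
    rw [Matrix.det_transpose, Matrix.det_neg, Fintype.card_fin,
      show ((-1 : F)) ^ 9 = -1 from (show Odd 9 from ⟨4, rfl⟩).neg_one_pow, neg_one_mul] at hdet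
    refine (mul_eq_zero.1 (show (2 : F) * X.det = 0 from ?_)).resolve_left h2
    linear_combination hdet

/-- A core gives a subfield group or the residual class. -/
theorem core_cases (hF : Fintype.card F = q ^ 2) {H P : Subgroup G9} (hH : IsMaximalIn (omegaU 9 F q) H)
    (hC : KnownA.PrimeDim.Core H P) : Cases q H := by
  rcases UnitMax.forms hF (by norm_num) hH hC with ⟨F₀, r, B, hr, hodd, hc, hB, heq⟩ |
    ⟨F₀, B, ζ, -, hζ, -, hB, hiso, -⟩ | ⟨hodd, F₀, B, hc, hB, heq⟩ | hres
  · exact Or.inr (Or.inr (Or.inr (Or.inr (Or.inr (Or.inl ⟨F₀, r, B, hr, hodd, hc, hB, heq⟩)))))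
  · exfalso
    have hh := UnitTwoPrime.herm_hermForm (n := 9) hF
    let σ := Geometry.frobQ hF
    let f := Cfsg.hermForm 9 F q
    let b : Fin 9 → Fin 9 → F := fun a => Pi.single a 1
    have hb : ∀ a i, b a i ∈ F₀ := fun a i => by
      simp only [b, Pi.single_apply]
      split_ifs
      · exact F₀.one_mem
      · exact F₀.zero_mem
    let v : Fin 9 → Fin 9 → F := fun a => (B : M9) *ᵥ b a
    let X : M9 := Matrix.of fun a c => f (v a) (v c)
    have hv0 : ∀ a, f (v a) (v a) = 0 := fun a => hiso _ (hb a)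
    have hskew : ∀ a c, X a c = -X c a := by
      intro a c
      have h0 := hiso (b a + b c) (fun i => F₀.add_mem (hb a i) (hb c i))
      rw [Matrix.mulVec_add, hh.add_left, hh.add_right, hh.add_right] at h0
      rw [hiso _ (hb a), hiso _ (hb c)] at h0
      show Cfsg.hermForm 9 F q ((B : M9) *ᵥ b a) ((B : M9) *ᵥ b c) =
        -Cfsg.hermForm 9 F q ((B : M9) *ᵥ b c) ((B : M9) *ᵥ b a)
      linear_combination h0
    have hX := no_alt hskew hv0
    obtain ⟨u, hu0, hu⟩ := Matrix.exists_mulVec_eq_zero_iff.2 hX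
    let w : Fin 9 → F := (B : M9) *ᵥ (σ ∘ u)
    have hw : w ≠ 0 := by
      intro h0
      have h1 : σ ∘ u = 0 := Matrix.mulVec_injective_iff_isUnit.mpr B.isUnit (by rw [Matrix.mulVec_zero]; exact h0)
      exact hu0 (funext fun i => σ.injective (by rw [Pi.zero_apply, map_zero]; exact congrFun h1 i))
    obtain ⟨⟨x, hx⟩, -⟩ := hh.nondegenerate w hw
    apply hx
    have hdec : ∀ z : Fin 9 → F, z = ∑ i, z i • b i := fun z => pi_eq_sum_univ' z
    obtain ⟨y, rfl⟩ : ∃ y, x = (B : M9) *ᵥ y := ⟨((B⁻¹ : G9) : M9) *ᵥ x, by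
      rw [Matrix.mulVec_mulVec, Units.mul_inv, Matrix.one_mulVec]⟩
    show Cfsg.hermForm 9 F q _ _ = 0
    rw [show w = (B : M9) *ᵥ (σ ∘ u) from rfl, hdec y, hdec (σ ∘ u), Matrix.mulVec_sum, Matrix.mulVec_sum,
      hh.sum_left]
    refine Finset.sum_eq_zero fun a _ => ?_
    rw [hh.sum_right]
    have hrow := congrFun hu a
    simp only [Matrix.mulVec, dotProduct, Pi.zero_apply] at hrow
    have : ∀ c, Cfsg.hermForm 9 F q ((B : M9) *ᵥ (y a • b a)) ((B : M9) *ᵥ ((σ ∘ u) c • b c)) = y a * (X a c * u c) := by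
      intro c
      rw [Matrix.mulVec_smul, Matrix.mulVec_smul, hh.smul_left, hh.smul_right]
      show y a * (σ (σ (u c)) * f (v a) (v c)) = _
      rw [hh.invol]
      show y a * (u c * f (v a) (v c)) = y a * (f (v a) (v c) * u c)
      ring
    simp only [this, ← Finset.mul_sum, hrow, mul_zero]
  · exact Or.inr (Or.inr (Or.inr (Or.inr (Or.inr (Or.inr (Or.inl ⟨hodd, F₀, B, hc, hB, heq⟩))))))
  · exact Or.inr (Or.inr (Or.inr (Or.inr (Or.inr (Or.inr (Or.inr (Or.inr (Or.inr hres))))))))


/-- `SU_9(q)` normalises no group of symplectic type of exponent three. -/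
theorem not_le_normalizer_data (hF : Fintype.card F = q ^ 2) {R : Subgroup G9} (hD : LinNine.Data 3 R) :
    ¬ omegaU 9 F q ≤ subgroupNormalizer R := by
  classical
  intro hle
  obtain ⟨ω, x₁, y₁, x₂, y₂, hx₁, hy₁, hx₂, hy₂, hq⟩ := hD.exists_quad
  have hcj : ∀ (g : omegaU 9 F q) {x : G9}, x ∈ R → (g : G9) * x * (g : G9)⁻¹ ∈ R := fun g x hx =>
    ((Subgroup.mem_normalizer_iff.1 (hle g.2)) x).1 hx
  let f : omegaU 9 F q → (R × R) × (R × R) := fun g =>
    ((⟨_, hcj g hx₁⟩, ⟨_, hcj g hy₁⟩), (⟨_, hcj g hx₂⟩, ⟨_, hcj g hy₂⟩))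
  have hfib : ∀ g g' : omegaU 9 F q, f g = f g' → ∃ a : F, a ^ 9 = 1 ∧ (g' : G9).1 = a • (g : G9).1 := by
    intro g g' he
    simp only [f, Prod.mk.injEq, Subtype.mk.injEq] at he
    have hc : ∀ z : G9, (g : G9) * z * (g : G9)⁻¹ = (g' : G9) * z * (g' : G9)⁻¹ →
        Commute ((g : G9)⁻¹ * g') z := by
      intro z hz
      show _ = _
      calc (g : G9)⁻¹ * g' * z = (g : G9)⁻¹ * ((g' : G9) * z * (g' : G9)⁻¹) * g' := by group
        _ = _ := by rw [← hz]; group
    obtain ⟨a, ha⟩ := PrimeDim.SympType.val_mem_scalars_iff.1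
      (hq.mem_scalars (hc _ he.1.1) (hc _ he.1.2) (hc _ he.2.1) (hc _ he.2.2))
    refine ⟨a, ?_, ?_⟩
    · have hd : (g : G9)⁻¹ * g' ∈ omegaU 9 F q := mul_mem (inv_mem g.2) g'.2
      have h2 : ((g : G9)⁻¹ * g').1.det = 1 := by
        have := congrArg Units.val (MonoidHom.mem_ker.1 (Subgroup.mem_inf.1 hd).2)
        simpa only [Matrix.GeneralLinearGroup.val_det_apply, Units.val_one] using this
      rw [ha, Matrix.det_smul, Matrix.det_one] at h2
      simpa using h2
    · calc (g' : G9).1 = (g : G9).1 * ((g : G9)⁻¹ * g').1 := by rw [← Units.val_mul, mul_inv_cancel_left]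
        _ = a • (g : G9).1 := by rw [ha, Matrix.mul_smul, Matrix.mul_one]
  haveI : Fintype ↥(omegaU 9 F q) := Fintype.ofFinite _
  haveI : Fintype R := Fintype.ofFinite _
  have hbound : Fintype.card ↥(omegaU 9 F q) ≤ 9 * Fintype.card ((R × R) × (R × R)) := by
    refine Finset.card_le_mul_card_image_of_maps_to (s := Finset.univ) (t := Finset.univ) (f := f)
      (fun _ _ => Finset.mem_univ _) 9 fun b _ => ?_
    rcases (Finset.univ.filter fun g => f g = b).eq_empty_or_nonempty with he | ⟨g, hg⟩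
    · rw [he]; simp
    rw [Finset.mem_filter] at hg
    refine le_trans (Finset.card_le_card_of_injOn (t := (Polynomial.nthRoots 9 (1 : F)).toFinset)
      (fun g' => if h : f g = f g' then (hfib g g' h).choose else 0) ?_ ?_) ?_
    · intro g' hg'
      have h : f g = f g' := hg.2.trans (Finset.mem_filter.1 hg').2.symm
      simp only [dif_pos h, Finset.mem_coe, Multiset.mem_toFinset, Polynomial.mem_nthRoots (by norm_num : 0 < 9)]
      exact (hfib g g' h).choose_spec.1
    · intro g₁ hg₁ g₂ hg₂ he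
      have h1 : f g = f g₁ := hg.2.trans (Finset.mem_filter.1 hg₁).2.symm
      have h2 : f g = f g₂ := hg.2.trans (Finset.mem_filter.1 hg₂).2.symm
      simp only [dif_pos h1, dif_pos h2] at he
      exact Subtype.ext (Units.ext (by rw [(hfib g g₁ h1).choose_spec.2, (hfib g g₂ h2).choose_spec.2, he]))
    · exact le_trans (Multiset.toFinset_card_le _) (Polynomial.card_nthRoots 9 1)
  have hR : Fintype.card R = 243 := by rw [← Nat.card_eq_fintype_card, hD.card_eq]; norm_num
  rw [Fintype.card_prod, Fintype.card_prod, hR] at hbound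
  have hge := UnitPrimeDim.card_omegaU_ge hF (n := 9) (by norm_num)
  rw [Nat.card_eq_fintype_card] at hge
  generalize Fintype.card ↥(omegaU 9 F q) = m at hbound hge
  omega

/-- A normalised group of symplectic type gives a subfield group or case eight. -/
theorem data_cases (hF : Fintype.card F = q ^ 2) {H R : Subgroup G9} (hH : IsMaximalIn (omegaU 9 F q) H)
    (hcent : ∀ N : Subgroup G9, N ≤ H → Norms H N → ∀ x ∈ centre N, ∃ c : F, x = c • (1 : M9))
    (hRH : R ≤ H) (hRn : Norms H R) (hD : LinNine.Data 3 R) : Cases q H := by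
  classical
  have hRU : R ≤ Cfsg.GU 9 F q := hRH.trans (le_GU hH)
  have hh := UnitTwoPrime.herm_hermForm (n := 9) hF
  set f := Cfsg.hermForm 9 F q with hfdef
  obtain ⟨ω, x, y, hx, hy, hp⟩ := hD.exists_pair
  have hω := hp.root
  obtain ⟨z, hz, hzv⟩ := hD.exists_zeta hx hy hp
  have hω0 : ω ≠ 0 := hω.ne_zero (by norm_num)
  have hωq : ω ^ (q + 1) = 1 := by
    obtain ⟨⟨u, hu⟩, -⟩ := hh.nondegenerate (Pi.single 0 1 : Fin 9 → F) (by simp)
    have h1 : f ((z : M9) *ᵥ u) ((z : M9) *ᵥ Pi.single 0 1) = f u (Pi.single 0 1) := hRU hz _ _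
    rw [hzv, Matrix.smul_mulVec, Matrix.smul_mulVec, Matrix.one_mulVec, Matrix.one_mulVec, hh.smul_left,
      hh.smul_right, Geometry.frobQ_apply hF, ← mul_assoc, mul_comm ω, ← pow_succ] at h1
    exact mul_right_cancel₀ hu (h1.trans (one_mul _).symm)
  have hdvd : 3 ∣ q + 1 := (hω.pow_eq_one_iff_dvd _).1 hωq
  by_cases hsub : ∃ F₀ : Subfield F, F₀ ≠ ⊤ ∧ ω ∈ F₀
  · obtain ⟨F₀, h0, hmem⟩ := hsub
    obtain ⟨F₁, r, h1, hr, hc, hreal⟩ :=
      PrimeDim.FormDescent.exists_prime_index_realisable h0 (hD.realisableOver hω F₀ hmem)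
    rw [Nat.card_eq_fintype_card] at hc
    let σ' := Geometry.frobQ hF
    let σ : F ≃+* F := RingEquiv.ofBijective σ' (Finite.injective_iff_bijective.mp σ'.injective)
    have hf : IsUnitaryForm σ f :=
      { ne_refl := fun h => by
          obtain ⟨t, ht⟩ := Geometry.exists_pow_ne_self hF
          apply ht
          rw [← Geometry.frobQ_apply hF]
          show σ t = t
          rw [h]; rfl
        involutive := hh.invol
        add_left := hh.add_left
        smul_left := hh.smul_left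
        herm := hh.herm
        nondegenerate := hh.nondegenerate }
    have hfix : FixesForm (matrixSet R) f := by
      rintro _ ⟨g, hg, rfl⟩ u v
      exact hRU hg u v
    obtain ⟨B, hB, hBn, hchar⟩ := PrimeDim.FormDescent.exists_unitary_structure
      (by rw [Fintype.card_fin]; exact ⟨4, rfl⟩) (by simp) hf hD.absIrr hfix hreal
    have heq : H = subfieldSubgroup F₁ B ⊓ omegaU 9 F q :=
      eq_inf hH (fun g hg => hBn g (hRn g hg)) (UnitPrimeDim.not_le_subfieldSubgroup hF (by norm_num) F₁ h1 B)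
    rcases hr.eq_two_or_odd' with rfl | hodd
    · have hcard : Nat.card F₁ = q := Nat.pow_left_injective two_ne_zero
        (show Nat.card F₁ ^ 2 = q ^ 2 by rw [← hc, hF])
      have h2 : (2 : F) ≠ 0 := hchar fun a ha => by
        show σ' a = a
        rw [Geometry.frobQ_apply hF, ← hcard]
        exact (PrimeDim.FormDescent.mem_iff_pow F₁ a).1 ha
      refine Or.inr (Or.inr (Or.inr (Or.inr (Or.inr (Or.inr (Or.inl ⟨?_, F₁, B, hc, hB, heq⟩))))))
      by_contra hev
      rw [Nat.not_odd_iff_even] at hev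
      obtain ⟨p, hpc⟩ := CharP.exists F
      haveI := hpc
      obtain ⟨k, hpp, hk⟩ := FiniteField.card F p
      have h2d : 2 ∣ p ^ (k : ℕ) := by rw [← hk, hF]; exact dvd_pow (even_iff_two_dvd.mp hev) two_ne_zero
      have := (Nat.prime_dvd_prime_iff_eq Nat.prime_two hpp).mp (Nat.prime_two.dvd_of_dvd_pow h2d)
      subst this
      exact h2 (by exact_mod_cast CharP.cast_eq_zero F 2)
    · exact Or.inr (Or.inr (Or.inr (Or.inr (Or.inr (Or.inl ⟨F₁, r, B, hr, hodd, hc, hB, heq⟩)))))
  -- the field is generated by a cube root of unity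
  push Not at hsub
  obtain ⟨p, hchar⟩ := CharP.exists F
  haveI := hchar
  obtain ⟨k, hpp, hk⟩ := FiniteField.card F p
  haveI := Fact.mk hpp
  have hp3 : p ≠ 3 := by
    rintro rfl
    exact hp.cast_ne_zero (CharP.cast_eq_zero F 3)
  let F₀ : Subfield F := RingHom.eqLocusField (iterateFrobenius F p 2) (RingHom.id F)
  have hp2 : ω ^ (p ^ 2) = ω := by
    have h3 : p ^ 2 % 3 = 1 := by
      have hp' : p % 3 ≠ 0 := fun h0 => hp3 ((Nat.prime_dvd_prime_iff_eq Nat.prime_three hpp).1
        (Nat.dvd_of_mod_eq_zero h0)).symm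
      rw [Nat.pow_mod]
      have := Nat.mod_lt p (show 3 > 0 by norm_num)
      interval_cases (p % 3) <;> simp at hp' ⊢
    rw [← Nat.div_add_mod (p ^ 2) 3, h3, pow_succ, pow_mul, hω.pow_eq_one, one_pow, one_mul]
  have htop : F₀ = ⊤ := by
    by_contra h0
    exact hsub F₀ h0 (by show iterateFrobenius F p 2 ω = ω; rw [iterateFrobenius_def, hp2])
  have hall : ∀ a : F, a ^ (p ^ 2) = a := fun a => by
    have : a ∈ F₀ := htop ▸ Subfield.mem_top a
    rw [← iterateFrobenius_def]
    exact this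
  obtain ⟨j, -, hj⟩ := (Nat.dvd_prime_pow hpp).1 (show q ∣ p ^ (k : ℕ) from hk ▸ hF ▸ dvd_pow_self q two_ne_zero)
  have hle2 : Fintype.card F ≤ p ^ 2 := by
    obtain ⟨g, hg⟩ := IsCyclic.exists_ofOrder_eq_natCard (α := Fˣ)
    rw [Nat.card_units, Nat.card_eq_fintype_card] at hg
    have h4 : 0 < p ^ 2 := pow_pos hpp.pos 2
    have hg1 : g ^ (p ^ 2 - 1) = 1 := by
      refine mul_right_cancel (b := g) ?_
      rw [← pow_succ, Nat.sub_add_cancel h4, one_mul]
      exact Units.ext (by rw [Units.val_pow_eq_pow_val, hall])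
    have h5 := Nat.le_of_dvd (Nat.sub_pos_of_lt (Nat.one_lt_pow two_ne_zero hpp.one_lt))
      (orderOf_dvd_of_pow_eq_one hg1)
    omega
  have hqp : q = p := by
    rcases j with _ | _ | j
    · rw [pow_zero] at hj
      subst hj
      have := Fintype.one_lt_card (α := F)
      simp [hF] at this
    · rw [pow_one] at hj; exact hj
    · exfalso
      rw [hF, hj, ← pow_mul] at hle2
      have := (Nat.pow_le_pow_iff_right hpp.one_lt).1 hle2
      omega
  have hsym : IsSymplecticTypeGroup 3 R := hD.symplecticType (by decide) H hRn fun A hA hAn hAc => by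
    intro a ha
    obtain ⟨c, hc⟩ := hcent A (hA.trans hRH) hAn (a : M9) (mem_centre.2 ⟨fun g hg => by
      rw [← Units.val_mul, ← Units.val_mul, hAc g hg a ha], fun X hX => (hX a ha).symm⟩)
    exact PrimeDim.SympType.val_mem_scalars_iff.2 ⟨c, hc⟩
  refine Or.inr (Or.inr (Or.inr (Or.inr (Or.inr (Or.inr (Or.inr (Or.inl
    ⟨p, R, hpp, hqp, by omega, hsym, hD.absIrr, fun g hg => ⟨1, fun u v => ?_⟩, ?_, hD.card_center,
      eq_inf hH (le_normalizer_of_norms hRn) (not_le_normalizer_data hF hD)⟩)))))))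
  · rw [Units.val_one, one_mul]
    exact hRU hg u v
  · rw [hD.card_eq]; norm_num

end Cfsg.Agent.Lib.UnitNine
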