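import Cfsg.Agent.Lib.UnitMax.Geom
import Cfsg.Agent.Lib.UnitTwoPrime.Tensor
import Cfsg.Agent.Lib.LinNine.Wreath
import Cfsg.Agent.Lib.LinNine.Proper
import Cfsg.Agent.Lib.Geometry.HermBasis

/-!
The tensor-wreath structure of `SU_9(q)`: a decomposition `3 ⊗ 3` of the Hermitian form refines to a tensor
square, and `SU_9(q)` stabilises no tensor square.
-/

set_option autoImplicit false
set_option linter.unusedSectionVars false
set_option linter.unusedSimpArgs false
set_option maxHeartbeats 1000000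
set_option synthInstance.maxHeartbeats 100000

namespace Cfsg.Agent.Lib.UnitNine

open Matrix Module Cfsg.Geo
open scoped MatrixGroups Matrix Kronecker
open Cfsg.Agent.Lib.UnitTwoPrime (Herm)
open Cfsg.Agent.Lib.LinNine.TwoFactors (InR InL flip3 flip3_inv flip3_kron flip3_mem kron_mem)

variable {F : Type*} [Field F] [Fintype F] {q : ℕ}

local notation "M3" => Matrix (Fin 3) (Fin 3) F
local notation "KK" => Matrix (Fin 3 × Fin 3) (Fin 3 × Fin 3) F
local notation "G3" => GL (Fin 3) F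
local notation "GK" => GL (Fin 3 × Fin 3) F
local notation "G9" => GL (Fin 9) F

/-- `a ↦ a ⊗ 1`. -/
def kl : G3 →* GK :=
  Units.map
    { toFun := fun A : M3 => A ⊗ₖ (1 : M3)
      map_one' := Matrix.one_kronecker_one
      map_mul' := fun A B => by rw [← Matrix.mul_kronecker_mul, one_mul] }

/-- `b ↦ 1 ⊗ b`. -/
def kr : G3 →* GK :=
  Units.map
    { toFun := fun B : M3 => (1 : M3) ⊗ₖ B
      map_one' := Matrix.one_kronecker_one
      map_mul' := fun A B => by rw [← Matrix.mul_kronecker_mul, one_mul] }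

theorem kl_val (a : G3) : (kl a : KK) = (a : M3) ⊗ₖ (1 : M3) := rfl

theorem kr_val (b : G3) : (kr b : KK) = (1 : M3) ⊗ₖ (b : M3) := rfl

/-- The first factor of the decomposition `(e, P)`. -/
def E1 (e : Fin 9 ≃ Fin 3 × Fin 3) (P : G9) (a : G3) : G9 := P * glReindex e.symm (kl a) * P⁻¹

/-- The second factor of the decomposition `(e, P)`. -/
def E2 (e : Fin 9 ≃ Fin 3 × Fin 3) (P : G9) (b : G3) : G9 := P * glReindex e.symm (kr b) * P⁻¹

theorem kl_injective : Function.Injective (kl (F := F)) := fun _ _ h =>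
  Units.ext (LinNine.TwoFactors.kron_left_inj (congrArg Units.val h))

theorem kr_injective : Function.Injective (kr (F := F)) := fun _ _ h =>
  Units.ext (LinNine.TwoFactors.kron_right_inj (congrArg Units.val h))

/-- The elementary transvection as a unit. -/
def tu (i j : Fin 3) (h : i ≠ j) (c : F) : G3 :=
  Matrix.GeneralLinearGroup.mkOfDetNeZero (Matrix.transvection i j c)
    (by rw [Matrix.det_transvection_of_ne i j h]; exact one_ne_zero)

theorem tu_val (i j : Fin 3) (h : i ≠ j) (c : F) : (tu i j h c : M3) = Matrix.transvection i j c := rfl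

/-- The commutant of `GL_3 ⊗ 1`. -/
theorem inR_of_commute {Y : KK} (hY : ∀ a : G3, Y * (kl a : KK) = (kl a : KK) * Y) : InR Y := by
  have hoff : ∀ i j : Fin 3, i ≠ j →
      Y * (Matrix.single i j (1 : F) ⊗ₖ (1 : M3)) = (Matrix.single i j (1 : F) ⊗ₖ (1 : M3)) * Y := by
    intro i j h
    have := hY (tu i j h 1)
    rw [kl_val, tu_val, Matrix.transvection, Matrix.add_kronecker, Matrix.one_kronecker_one, mul_add, add_mul,
      one_mul, mul_one] at this
    exact add_left_cancel this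
  have hall : ∀ i j : Fin 3,
      Y * (Matrix.single i j (1 : F) ⊗ₖ (1 : M3)) = (Matrix.single i j (1 : F) ⊗ₖ (1 : M3)) * Y := by
    intro i j
    by_cases h : i = j
    · subst h
      obtain ⟨l, hl⟩ := exists_ne i
      have e : Matrix.single i i (1 : F) ⊗ₖ (1 : M3) =
          (Matrix.single i l (1 : F) ⊗ₖ (1 : M3)) * (Matrix.single l i (1 : F) ⊗ₖ (1 : M3)) := by
        rw [← Matrix.mul_kronecker_mul, one_mul, Matrix.single_mul_single_same, one_mul]
      rw [e, ← mul_assoc, hoff i l hl.symm, mul_assoc, hoff l i hl, ← mul_assoc]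
    · exact hoff i j h
  refine ⟨Matrix.of fun k l => Y (0, k) (0, l), ?_⟩
  ext ⟨i, k⟩ ⟨j, l⟩
  have h := congrFun (congrFun (hall i 0) (i, k)) (0, l)
  have h' := congrFun (congrFun (hall j 0) (i, k)) (0, l)
  simp [Matrix.mul_apply, Fintype.sum_prod_type, Matrix.single_apply, Matrix.one_apply, ite_and] at h h' ⊢
  by_cases hij : i = j
  · subst hij; simpa using h
  · simpa [hij, Ne.symm hij] using h'

/-- The commutant of `1 ⊗ GL_3`. -/
theorem inL_of_commute {Y : KK} (hY : ∀ b : G3, Y * (kr b : KK) = (kr b : KK) * Y) : InL Y := by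
  set f : KK := (flip3 F : KK) with hf
  have hff : f * f = 1 := by
    rw [hf]; conv_lhs => arg 1; rw [← flip3_inv]
    rw [Units.inv_mul]
  have hc : ∀ b : G3, f * (kr b : KK) * f = (kl b : KK) := fun b => flip3_kron _ _
  obtain ⟨B, hB⟩ := inR_of_commute (Y := f * Y * f) fun a => by
    rw [← hc a]
    have := congrArg (fun Z => f * Z * f) (hY a)
    calc f * Y * f * (f * (kr a : KK) * f) = f * (Y * (kr a : KK)) * f := by
          simp only [← mul_assoc, mul_assoc _ f f, hff, mul_one]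
      _ = f * ((kr a : KK) * Y) * f := this
      _ = f * (kr a : KK) * f * (f * Y * f) := by simp only [← mul_assoc, mul_assoc _ f f, hff, mul_one]
  refine ⟨B, ?_⟩
  calc Y = f * (f * Y * f) * f := by simp only [← mul_assoc, hff, one_mul]; rw [mul_assoc, hff, mul_one]
    _ = f * ((1 : M3) ⊗ₖ B) * f := by rw [hB]
    _ = B ⊗ₖ (1 : M3) := flip3_kron _ _

/-- An element normalising both tensor factors is a Kronecker product. -/
theorem mem_kronecker {w : GK} (hl : ∀ a : G3, ∃ a', w * kl a * w⁻¹ = kl a') :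
    w ∈ kroneckerSubgroup 3 3 F := by
  choose f hf using hl
  haveI : Finite G3 := inferInstance
  have hsurj : Function.Surjective f := Finite.injective_iff_surjective.mp fun a a' h => by
    have := (hf a).trans ((congrArg kl h).trans (hf a').symm)
    exact kl_injective (mul_left_cancel (mul_right_cancel this))
  have hR : ∀ Y : KK, InR Y ↔ ∀ a : G3, Y * (kl a : KK) = (kl a : KK) * Y := by
    refine fun Y => ⟨?_, inR_of_commute⟩
    rintro ⟨B, rfl⟩ a
    exact (LinNine.TwoFactors.kron_comm _ _).symm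
  refine LinNine.TwoFactors.pure_of_normalises (fun a : G3 => (a : M3)) ?_ ?_ (fun a => ⟨kl a, rfl⟩)
    (fun Y hY => inL_of_commute fun b => hY b) fun Y => ?_
  · intro U hU
    by_cases h0 : U = ⊥
    · exact Or.inl h0
    right
    obtain ⟨u, hu, hu0⟩ := U.ne_bot_iff.mp h0
    obtain ⟨j, hj⟩ := Function.ne_iff.mp hu0
    have hmove : ∀ i l : Fin 3, i ≠ l → ∀ v ∈ U, v l • Pi.single i (1 : F) ∈ U := by
      intro i l h v hv
      have h1 := U.sub_mem (hU (tu i l h 1) v hv) hv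
      convert h1 using 1
      rw [tu_val, Matrix.transvection, Matrix.add_mulVec, Matrix.one_mulVec, add_sub_cancel_left,
        Matrix.single_mulVec]
      funext k
      simp [Pi.single_apply, Function.update_apply]
    have hb : ∀ i, i ≠ j → Pi.single i (1 : F) ∈ U := fun i h => by
      simpa [smul_smul, inv_mul_cancel₀ hj] using U.smul_mem (u j)⁻¹ (hmove i j h u hu)
    obtain ⟨l, hl⟩ := exists_ne j
    have hj' : Pi.single j (1 : F) ∈ U := by
      simpa using hmove j l hl.symm _ (hb l hl)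
    refine Submodule.eq_top_iff'.mpr fun v => ?_
    rw [pi_eq_sum_univ' v]
    refine U.sum_mem fun i _ => U.smul_mem _ ?_
    by_cases h : i = j
    · exact h ▸ hj'
    · exact hb i h
  · intro X hX
    obtain ⟨c, hc⟩ := Matrix.mem_range_scalar_of_commute_transvectionStruct (M := X)
      fun t => (hX (tu t.i t.j t.hij t.c)).symm
    exact ⟨c, hc.symm.trans (Matrix.smul_one_eq_diagonal c).symm⟩
  · rw [hR, hR]
    constructor
    · intro h a'
      obtain ⟨a, rfl⟩ := hsurj a'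
      rw [← hf a]
      have := congrArg (fun Z => (w : KK) * Z * ((w⁻¹ : GK) : KK)) (h a)
      simpa [mul_assoc] using this
    · intro h a
      have := congrArg (fun Z => ((w⁻¹ : GK) : KK) * Z * (w : KK)) (h (f a))
      rw [← hf a] at this
      simpa [mul_assoc] using this

/-- An orthonormal basis of a Hermitian form. -/
theorem exists_orth (hF : Fintype.card F = q ^ 2) {f : (Fin 3 → F) → (Fin 3 → F) → F}
    (h : IsUnitaryFormPow q f) :
    ∃ S : G3, (S : M3)ᵀ * gramMatrix f * (S : M3).map (Geometry.frobQ hF) = 1 := by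
  classical
  set σ := Geometry.frobQ hF with hσdef
  have hh : Herm σ f := UnitTwoPrime.herm_of_pow hF h
  let B : (Fin 3 → F) →ₛₗ[σ] (Fin 3 → F) →ₗ[F] F :=
    LinearMap.mk₂'ₛₗ σ (RingHom.id F) (fun v w => f w v) (fun v v' w => hh.add_right w v v')
      (fun c v w => by simp [hh.smul_right]) (fun v w w' => hh.add_left w w' v)
      (fun c v w => by simp [hh.smul_left])
  have hS : B.IsSymm := ⟨fun v w => by
    show σ (f w v) = f v w
    rw [hh.herm v w]⟩
  have hB : B.Nondegenerate := by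
    constructor
    · intro v hv
      by_contra hne
      obtain ⟨⟨x, hx⟩, -⟩ := hh.nondegenerate v hne
      exact hx (hv x)
    · intro v hv
      by_contra hne
      obtain ⟨-, x, hx⟩ := hh.nondegenerate v hne
      exact hx (hv x)
  obtain ⟨b, hb⟩ := Geometry.exists_orthonormal_family (Geometry.frobQ_ne_id hF)
    (Geometry.frobQ_frobQ hF) B hS hB 3 (by simp)
  let S : M3 := Matrix.of fun k j => b j k
  have key : Sᵀ * gramMatrix f * S.map σ = 1 := by
    ext j i
    have h1 := hb i j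
    change f (b j) (b i) = _ at h1
    rw [hh.eq_formOfGram, formOfGram] at h1
    rw [Matrix.one_apply, show (if j = i then (1 : F) else 0) = if i = j then 1 else 0 by simp [eq_comm], ← h1]
    simp only [Matrix.mul_apply, Finset.sum_mul, Matrix.transpose_apply, Matrix.map_apply, S, Matrix.of_apply]
    exact Finset.sum_comm
  have hdet : S.det ≠ 0 := fun h0 => by
    have := congrArg Matrix.det key
    simp [Matrix.det_mul, h0] at this
  exact ⟨Matrix.GeneralLinearGroup.mkOfDetNeZero S hdet, key⟩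

theorem gram_std : gramMatrix (Cfsg.hermForm 3 F q) = (1 : M3) ∨ q = 0 := by
  by_cases hq : q = 0
  · exact Or.inr hq
  left
  ext a b
  show Cfsg.hermForm 3 F q (Pi.single a 1) (Pi.single b 1) = _
  simp [Cfsg.hermForm, Matrix.one_apply, Pi.single_apply, ite_pow, zero_pow hq, eq_comm]

/-- A decomposition `3 ⊗ 3` of the form refines to a tensor square. -/
theorem wreath_structure_swap (hF : Fintype.card F = q ^ 2) {e : Fin 9 ≃ Fin 3 × Fin 3} {P : G9}
    {f₁ f₂ : (Fin 3 → F) → (Fin 3 → F) → F} (h₁ : IsUnitaryFormPow q f₁) (h₂ : IsUnitaryFormPow q f₂)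
    (hs : IsTensorFormStructure (fun x : F => x ^ q) (Cfsg.hermForm 9 F q) f₁ f₂ e P) :
    ∃ (e2 : Fin 9 ≃ (Fin 2 → Fin 3)) (P2 : G9) (g1 : (Fin 3 → F) → (Fin 3 → F) → F),
      IsUnitaryFormPow q g1 ∧
      IsTensorPowerFormStructure (fun x : F => x ^ q) (Cfsg.hermForm 9 F q) g1 e2 P2 ∧
      tensorProductSubgroup 3 3 e P ≤ tensorWreathSubgroup 3 2 e2 P2 ∧
      ∀ h : G9, (∀ a : G3, ∃ b, h * E1 e P a * h⁻¹ = E2 e P b) →
        (∀ b, ∃ a, h * E2 e P b * h⁻¹ = E1 e P a) → h ∈ tensorWreathSubgroup 3 2 e2 P2 := by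
  classical
  have hq : q ≠ 0 := fun h0 => by
    rw [h0] at hF
    simp at hF
  set σ := Geometry.frobQ hF with hσdef
  obtain ⟨S₁, hS₁⟩ := exists_orth hF h₁
  obtain ⟨S₂, hS₂⟩ := exists_orth hF h₂
  obtain ⟨c, hc, hform⟩ := hs
  set k₀ : GK := kl S₁ * kr S₂ with hk₀
  have hk₀v : (k₀ : KK) = (S₁ : M3) ⊗ₖ (S₂ : M3) := by
    rw [hk₀, Units.val_mul, kl_val, kr_val, ← Matrix.mul_kronecker_mul, mul_one, one_mul]
  have hk₀m : k₀ ∈ kroneckerSubgroup 3 3 F := ⟨S₁, S₂, hk₀v⟩
  clear_value k₀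
  set e2 := e.trans (finTwoArrowEquiv (Fin 3)).symm with he2
  set P2 := P * glReindex e.symm k₀ with hP2
  have hmem : ∀ z : GK,
      glReindex (finTwoArrowEquiv (Fin 3)).symm (k₀⁻¹ * z * k₀) ∈ tensorWreathStandard 3 2 F →
        P * glReindex e.symm z * P⁻¹ ∈ tensorWreathSubgroup 3 2 e2 P2 := by
    intro z hz
    refine ⟨_, ⟨_, hz, rfl⟩, ?_⟩
    have hcomp : ∀ W : GK,
        glReindex e2.symm (glReindex (finTwoArrowEquiv (Fin 3)).symm W) = glReindex e.symm W := by
      intro W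
      ext i j
      simp [glReindex, he2, Matrix.reindex_apply]
    show P2 * glReindex e2.symm (glReindex _ (k₀⁻¹ * z * k₀)) * P2⁻¹ = _
    rw [hcomp, hP2, map_mul, map_mul, map_inv]
    group
  refine ⟨e2, P2, Cfsg.hermForm 3 F q, (UnitTwoPrime.herm_hermForm hF).isUnitaryFormPow hF,
    ⟨c, hc, fun x y => ?_⟩, ?_, fun h h12 h21 => ?_⟩
  · have hP2v : ∀ u : (Fin 2 → Fin 3) → F, (P2 : Matrix (Fin 9) (Fin 9) F) *ᵥ (u ∘ e2) =
        (P : Matrix (Fin 9) (Fin 9) F) *ᵥ
          (((k₀ : KK) *ᵥ (u ∘ (finTwoArrowEquiv (Fin 3)).symm)) ∘ e) := by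
      intro u
      rw [hP2, Units.val_mul, ← Matrix.mulVec_mulVec]
      congr 1
      show Matrix.reindex e.symm e.symm (k₀ : KK) *ᵥ _ = _
      rw [Matrix.reindex_apply, Equiv.symm_symm, Matrix.submatrix_mulVec_equiv]
      congr 2
      funext p
      simp [he2]
    rw [hP2v, hP2v, hform]
    congr 1
    set x' := x ∘ (finTwoArrowEquiv (Fin 3)).symm with hx'
    set y' := y ∘ (finTwoArrowEquiv (Fin 3)).symm with hy'
    have hmid : (k₀ : KK)ᵀ * (gramMatrix f₁ ⊗ₖ gramMatrix f₂) * (k₀ : KK).map σ = 1 := by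
      rw [hk₀v, show ((S₁ : M3) ⊗ₖ (S₂ : M3)).map σ = (S₁ : M3).map σ ⊗ₖ (S₂ : M3).map σ by ext; simp,
        ← Matrix.kroneckerMap_transpose, ← Matrix.mul_kronecker_mul, ← Matrix.mul_kronecker_mul,
        hS₁, hS₂, Matrix.one_kronecker_one]
    have hpull : formOfGram (fun t : F => t ^ q) (gramMatrix f₁ ⊗ₖ gramMatrix f₂) ((k₀ : KK) *ᵥ x')
        ((k₀ : KK) *ᵥ y') = x' ⬝ᵥ (σ ∘ y') := by
      rw [show (fun t : F => t ^ q) = σ from rfl, UnitTwoPrime.formOfGram_eq,
        show (σ ∘ ((k₀ : KK) *ᵥ y')) = (k₀ : KK).map σ *ᵥ (σ ∘ y') from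
          funext fun i => RingHom.map_mulVec σ _ _ i,
        Matrix.mulVec_mulVec, ← Matrix.vecMul_transpose, ← Matrix.dotProduct_mulVec, Matrix.mulVec_mulVec,
        ← mul_assoc, hmid, Matrix.one_mulVec]
    rw [hpull]
    have hg : gramMatrix (Cfsg.hermForm 3 F q) = (1 : M3) := gram_std.resolve_right hq
    have hprod : ∀ a b : Fin 2 → Fin 3,
        (∏ i, gramMatrix (Cfsg.hermForm 3 F q) (a i) (b i)) = if a = b then 1 else 0 := by
      intro a b
      simp only [hg, Matrix.one_apply, Fintype.prod_boole, funext_iff]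
      split_ifs <;> rfl
    simp only [hprod, mul_ite, mul_one, mul_zero, ite_mul, zero_mul, Finset.sum_ite_eq, Finset.mem_univ, if_true]
    exact (finTwoArrowEquiv (Fin 3)).symm.sum_comp fun a => x a * y a ^ q
  · rintro _ ⟨_, ⟨z, hz, rfl⟩, rfl⟩
    exact hmem z (kron_mem (mul_mem (mul_mem (inv_mem hk₀m) hz) hk₀m))
  · obtain ⟨z, rfl⟩ : ∃ z : GK, h = P * glReindex e.symm z * P⁻¹ :=
      ⟨(glReindex e.symm).symm (P⁻¹ * h * P), by rw [MulEquiv.apply_symm_apply]; group⟩
    have hconv : ∀ (g g' : GK),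
        P * glReindex e.symm z * P⁻¹ * (P * glReindex e.symm g * P⁻¹) * (P * glReindex e.symm z * P⁻¹)⁻¹ =
          P * glReindex e.symm g' * P⁻¹ → z * g * z⁻¹ = g' := by
      intro g g' hgg
      refine (glReindex e.symm).injective (mul_left_cancel (a := P) (mul_right_cancel (b := P⁻¹) ?_))
      rw [← hgg, map_mul, map_mul, map_inv]
      group
    have hfl : ∀ b : G3, flip3 F * kr b * (flip3 F)⁻¹ = kl b := fun b => by
      refine Units.ext ?_
      rw [flip3_inv]
      exact flip3_kron _ _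
    obtain ⟨K, hK, rfl⟩ : ∃ K ∈ kroneckerSubgroup 3 3 F, z = (flip3 F)⁻¹ * K := by
      refine ⟨flip3 F * z, mem_kronecker (fun a => ?_), by group⟩
      obtain ⟨b, hb⟩ := h12 a
      refine ⟨b, ?_⟩
      rw [← hfl b, ← hconv _ _ hb]
      group
    refine hmem _ ?_
    rw [map_mul, map_mul, map_mul]
    refine mul_mem (mul_mem (kron_mem (inv_mem hk₀m)) (mul_mem ?_ (kron_mem hK))) (kron_mem hk₀m)
    rw [map_inv]
    exact inv_mem flip3_mem

section Coord

open Cfsg.Agent.Lib.UnitTwoPrime (formOfGram_eq gram_formOfGram herm_formOfGram)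

variable {ι : Type} [Fintype ι] [DecidableEq ι]

/-- As `UnitTwoPrime.tensor_form`, keeping the coordinates. -/
theorem tensor_form_coord {σ : F →+* F} (hne : ∃ t, σ t ≠ t) {f : (ι → F) → (ι → F) → F} (hf : Herm σ f)
    {N : Subgroup (GL ι F)}
    (hiso : ∀ g ∈ N, ∀ u v, f ((g : Matrix ι ι F) *ᵥ u) ((g : Matrix ι ι F) *ᵥ v) = f u v)
    {d k : ℕ} (hd : 0 < d) (hk : 0 < k) (A : N → Matrix (Fin d) (Fin d) F)
    (hirr : ∀ U : Submodule F (Fin d → F), (∀ n, ∀ u ∈ U, A n *ᵥ u ∈ U) → U = ⊥ ∨ U = ⊤)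
    (hscal : ∀ M : Matrix (Fin d) (Fin d) F, (∀ n, M * A n = A n * M) → ∃ c : F, M = c • 1)
    (φ : Fin k → (Fin d → F) →ₗ[F] (ι → F))
    (hequiv : ∀ j (n : N) x, ((n : GL ι F) : Matrix ι ι F) *ᵥ φ j x = φ j (A n *ᵥ x))
    (hbij : Function.Bijective (MaxTensor.assemble φ)) :
    ∃ (e : ι ≃ Fin d × Fin k) (P : GL ι F) (f₁ : (Fin d → F) → (Fin d → F) → F)
      (f₂ : (Fin k → F) → (Fin k → F) → F), Herm σ f₁ ∧ Herm σ f₂ ∧
      (∀ x : Fin d × Fin k → F, (P : Matrix ι ι F) *ᵥ (x ∘ e) = MaxTensor.assemble φ fun j i => x (i, j)) ∧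
      Cfsg.Geo.IsTensorFormStructure σ f f₁ f₂ e P ∧
      ∀ h ∈ Subgroup.normalizer (N : Set (GL ι F)), h ∈ Cfsg.Geo.tensorProductSubgroup d k e P := by
  classical
  haveI : Nonempty (Fin d) := ⟨⟨0, hd⟩⟩
  set S := MaxTensor.assemble φ with hS
  let G : Fin k → Fin k → Matrix (Fin d) (Fin d) F := fun a b i j =>
    f (φ a (Pi.single i 1)) (φ b (Pi.single j 1))
  have hG : ∀ a b x y, f (φ a x) (φ b y) = formOfGram σ (G a b) x y := by
    intro a b x y
    conv_lhs => rw [pi_eq_sum_univ' x, pi_eq_sum_univ' y, map_sum, map_sum, hf.sum_left]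
    refine Finset.sum_congr rfl fun i _ => ?_
    rw [hf.sum_right]
    refine Finset.sum_congr rfl fun j _ => ?_
    rw [map_smul, map_smul, hf.smul_left, hf.smul_right]
    ring
  have hform : ∀ u w, f (S u) (S w) = ∑ a, ∑ b, formOfGram σ (G a b) (u a) (w b) := by
    intro u w
    simp only [hS, MaxTensor.assemble, LinearMap.coe_mk, AddHom.coe_mk, hf.sum_left]
    refine Finset.sum_congr rfl fun a _ => ?_
    rw [hf.sum_right]
    exact Finset.sum_congr rfl fun b _ => hG a b _ _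
  -- the Gram matrices twisted by `σ`
  let Gs : Fin k → Fin k → Matrix (Fin d) (Fin d) F := fun a b => (G a b).map σ
  have hAu : ∀ n, IsUnit (A n) := by
    intro n
    rw [← Matrix.mulVec_injective_iff_isUnit]
    intro u w huw
    have hinj : Function.Injective (φ ⟨0, hk⟩) := by
      intro u w h
      have h1 : S (Pi.single ⟨0, hk⟩ u) = S (Pi.single ⟨0, hk⟩ w) := by
        simp only [hS, MaxTensor.assemble, LinearMap.coe_mk, AddHom.coe_mk]
        refine Finset.sum_congr rfl fun j _ => ?_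
        by_cases hj : j = ⟨0, hk⟩
        · subst hj; simpa using h
        · simp [hj]
      simpa using congrFun (hbij.1 h1) ⟨0, hk⟩
    apply hinj
    apply Matrix.mulVec_injective_iff_isUnit.mpr (n : GL ι F).isUnit
    show _ *ᵥ φ _ u = _ *ᵥ φ _ w
    rw [hequiv, hequiv, huw]
  have hGinv : ∀ n a b, ((A n).map σ)ᵀ * Gs a b * A n = Gs a b := by
    intro n a b
    have h1 : (A n)ᵀ * G a b * (A n).map σ = G a b := by
      rw [← gram_formOfGram σ ((A n)ᵀ * G a b * (A n).map σ), ← gram_formOfGram σ (G a b)]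
      congr 1
      funext x y
      have hσy : σ ∘ (A n *ᵥ y) = (A n).map σ *ᵥ (σ ∘ y) := funext fun i => RingHom.map_mulVec σ _ _ _
      have := hiso _ n.2 (φ a x) (φ b y)
      rw [hequiv, hequiv, hG, hG] at this
      rw [gram_formOfGram, ← this, formOfGram_eq, formOfGram_eq, hσy, ← Matrix.mulVec_mulVec,
        ← Matrix.mulVec_mulVec, Matrix.dotProduct_mulVec, Matrix.vecMul_transpose]
    have hinv : (fun x => σ (σ x)) = id := funext hf.invol
    have h2 := congrArg (fun M : Matrix (Fin d) (Fin d) F => M.map σ) h1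
    simp only [Matrix.map_mul, ← Matrix.transpose_map] at h2
    rwa [Matrix.map_map, show ((σ : F → F) ∘ σ) = id from hinv, Matrix.map_id] at h2
  obtain ⟨a₀, b₀, hne0⟩ : ∃ a b, G a b ≠ 0 := by
    by_contra hc
    push Not at hc
    let u : Fin k → Fin d → F := fun _ _ => 1
    have hu : S u ≠ 0 := by
      intro h0
      have := hbij.1 (h0.trans (map_zero S).symm)
      exact one_ne_zero (congrFun (congrFun this ⟨0, hk⟩) ⟨0, hd⟩)
    obtain ⟨⟨x, hx⟩, -⟩ := hf.nondegenerate _ hu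
    obtain ⟨w, rfl⟩ := hbij.2 x
    rw [hform] at hx
    simp [hc, formOfGram] at hx
  have hker : ∀ y : Fin d → F, Gs a₀ b₀ *ᵥ y = 0 → y = 0 := by
    have hb := (hirr (LinearMap.ker (Matrix.toLin' (Gs a₀ b₀))) fun n u hu => ?_).resolve_right
      fun htop => hne0 ?_
    · intro y hy
      have : y ∈ LinearMap.ker (Matrix.toLin' (Gs a₀ b₀)) := by simpa using hy
      rwa [hb, Submodule.mem_bot] at this
    · rw [LinearMap.mem_ker, Matrix.toLin'_apply] at hu ⊢
      have hT : IsUnit (((A n).map σ)ᵀ) :=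
        (Matrix.isUnit_transpose _).mpr ((hAu n).map σ.mapMatrix)
      apply Matrix.mulVec_injective_iff_isUnit.mpr hT
      show _ *ᵥ (Gs a₀ b₀ *ᵥ (A n *ᵥ u)) = _ *ᵥ 0
      rw [Matrix.mulVec_mulVec, Matrix.mulVec_mulVec, hGinv, hu, Matrix.mulVec_zero]
    · have h0 : Gs a₀ b₀ = 0 := Matrix.toLin'.injective (by rw [map_zero]; exact LinearMap.ker_eq_top.1 htop)
      ext i j
      exact σ.injective (by simpa [Gs] using congrFun (congrFun h0 i) j)
  have hGu : IsUnit (Gs a₀ b₀) := by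
    rw [← Matrix.mulVec_injective_iff_isUnit]
    intro u w huw
    exact sub_eq_zero.mp (hker _ (by rw [Matrix.mulVec_sub]; exact sub_eq_zero.mpr huw))
  have hprop : ∀ a b, ∃ c : F, G a b = c • G a₀ b₀ := by
    intro a b
    obtain ⟨U, hU⟩ := hGu
    obtain ⟨c, hc⟩ := hscal (((U⁻¹ : GL (Fin d) F) : Matrix (Fin d) (Fin d) F) * Gs a b) fun n => by
      have hT : IsUnit (((A n).map σ)ᵀ) := (Matrix.isUnit_transpose _).mpr ((hAu n).map σ.mapMatrix)
      refine (hT.mul ⟨U, rfl⟩).mul_left_cancel ?_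
      calc ((A n).map σ)ᵀ * ↑U * (↑U⁻¹ * Gs a b * A n)
          = ((A n).map σ)ᵀ * Gs a b * A n := by simp [mul_assoc]
        _ = ↑U * (↑U⁻¹ * Gs a b) := by rw [hGinv]; simp
        _ = ((A n).map σ)ᵀ * ↑U * A n * (↑U⁻¹ * Gs a b) := by rw [hU, hGinv]
        _ = _ := by simp [mul_assoc]
    have hc' : Gs a b = c • Gs a₀ b₀ := by
      have := congrArg (fun M => (U : Matrix (Fin d) (Fin d) F) * M) hc
      rwa [← mul_assoc, Units.mul_inv, one_mul, mul_smul_comm, mul_one, hU] at this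
    refine ⟨σ c, Matrix.ext fun i j => ?_⟩
    have h3 := congrArg σ (congrFun (congrFun hc' i) j)
    simpa [Gs, hf.invol] using h3
  choose β hβ using hprop
  set μ := β b₀ a₀ with hμdef
  have hswap : ∀ a b i j, G b a j i = σ (G a b i j) := fun a b i j => hf.herm _ _
  have hμ : ∀ i j, μ * G a₀ b₀ j i = σ (G a₀ b₀ i j) := by
    intro i j
    rw [← hswap, hβ b₀ a₀]
    rfl
  obtain ⟨l, hl0, hl⟩ : ∃ l : F, l ≠ 0 ∧ σ l * μ = l := by
    obtain ⟨i, j, hij⟩ : ∃ i j, G a₀ b₀ i j ≠ 0 := by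
      by_contra hc
      push Not at hc
      exact hne0 (Matrix.ext hc)
    have hμσ : σ μ * μ = 1 := by
      have h4 := congrArg σ (hμ i j)
      rw [map_mul, hf.invol, ← hμ j i] at h4
      have : (σ μ * μ) * G a₀ b₀ i j = 1 * G a₀ b₀ i j := by rw [one_mul, mul_assoc]; exact h4
      exact mul_right_cancel₀ hij this
    by_cases hμ1 : ∀ t, t + μ * σ t = 0
    · exfalso
      obtain ⟨t, ht⟩ := hne
      have h1 : (1 : F) + μ * σ 1 = 0 := hμ1 1
      rw [map_one, mul_one] at h1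
      have hm : μ = -1 := by linear_combination h1
      have := hμ1 t
      rw [hm] at this
      exact ht (by linear_combination -this)
    · push Not at hμ1
      obtain ⟨t, ht⟩ := hμ1
      refine ⟨t + μ * σ t, ht, ?_⟩
      rw [map_add, map_mul, hf.invol]
      linear_combination t * hμσ
  let G₁ : Matrix (Fin d) (Fin d) F := l • G a₀ b₀
  let B : Matrix (Fin k) (Fin k) F := Matrix.of fun a b => β a b * l⁻¹
  have hGB : ∀ a b, G a b = B a b • G₁ := by
    intro a b
    rw [hβ a b]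
    simp only [B, G₁, Matrix.of_apply, smul_smul]
    congr 1
    field_simp
  have hG1 : ∀ i j, G₁ j i = σ (G₁ i j) := by
    intro i j
    simp only [G₁, Matrix.smul_apply, smul_eq_mul, map_mul, ← hμ]
    rw [← mul_assoc, hl]
  have hG1ne : ∃ i j, G₁ i j ≠ 0 := by
    by_contra hc
    push Not at hc
    refine hne0 (Matrix.ext fun i j => ?_)
    have := hc i j
    simpa [G₁, hl0] using this
  have hB : ∀ a b, B b a = σ (B a b) := by
    intro a b
    obtain ⟨i, j, hij⟩ := hG1ne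
    have h5 := hswap a b i j
    rw [hGB b a, hGB a b, Matrix.smul_apply, Matrix.smul_apply, smul_eq_mul, smul_eq_mul, map_mul,
      ← hG1] at h5
    refine mul_right_cancel₀ (b := G₁ j i) ?_ h5
    rw [hG1]
    exact fun h => hij (σ.injective (h.trans (map_zero σ).symm))
  have hf1 : Herm σ (formOfGram σ G₁) := by
    refine herm_formOfGram σ hf.invol G₁ hG1 fun y hy => hker y (funext fun i => ?_)
    have h6 : G a₀ b₀ *ᵥ (σ ∘ y) = 0 := by
      simpa [G₁, Matrix.smul_mulVec, hl0] using hy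
    have h7 := congrArg σ (congrFun h6 i)
    rw [RingHom.map_mulVec, Pi.zero_apply, map_zero] at h7
    simpa [Gs, Function.comp_def, hf.invol] using h7
  have hfull : ∀ u w, f (S u) (S w) = ∑ a, ∑ b, B a b * formOfGram σ G₁ (u a) (w b) := by
    intro u w
    rw [hform]
    refine Finset.sum_congr rfl fun a _ => Finset.sum_congr rfl fun b _ => ?_
    rw [hGB, formOfGram_eq, formOfGram_eq, Matrix.smul_mulVec, dotProduct_smul, smul_eq_mul]
  have hf2 : Herm σ (formOfGram σ B) := by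
    refine herm_formOfGram σ hf.invol B hB fun v hv => ?_
    by_contra hv0
    let y₀ : Fin d → F := fun _ => 1
    have hw : S (fun b => v b • y₀) ≠ 0 := by
      intro h0
      have h8 := hbij.1 (h0.trans (map_zero S).symm)
      exact hv0 (funext fun b => by simpa [y₀] using congrFun (congrFun h8 b) ⟨0, hd⟩)
    obtain ⟨⟨x, hx⟩, -⟩ := hf.nondegenerate _ hw
    obtain ⟨u, rfl⟩ := hbij.2 x
    apply hx
    rw [hfull]
    refine Finset.sum_eq_zero fun a _ => ?_
    simp only [hf1.smul_right, ← mul_assoc, ← Finset.sum_mul]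
    have h9 : ∑ b, B a b * σ (v b) = 0 := congrFun hv a
    rw [h9, zero_mul]
  obtain ⟨e, P, hP, hn⟩ := MaxTensor.normalizer_le_tensor_coord A hirr hscal φ hequiv hbij
  refine ⟨e, P, _, _, hf1, hf2, hP, ⟨1, one_ne_zero, fun x y => ?_⟩, hn⟩
  rw [hP, hP, hfull, one_mul, gram_formOfGram, gram_formOfGram]
  simp only [formOfGram, Fintype.sum_prod_type, Finset.mul_sum, Matrix.kroneckerMap_apply]
  rw [Finset.sum_comm (γ := Fin d)]
  refine Finset.sum_congr rfl fun a _ => ?_
  rw [Finset.sum_comm (γ := Fin k)]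
  refine Finset.sum_congr rfl fun i _ => ?_
  rw [Finset.sum_comm (γ := Fin d)]
  exact Finset.sum_congr rfl fun b _ => Finset.sum_congr rfl fun j _ => by ring

end Coord

open Cfsg.Agent.Lib.LinNine.TwoFactors (Hyp commSet theta commSet_conj kron_comm kron_left_inj kron_right_inj)

/-- Two commuting non-abelian subgroups of a unitary group, normalised by an irreducible one, give a tensor
square decomposition of the form. -/
theorem pair_wreath (hF : Fintype.card F = q ^ 2) {P M M2 : Subgroup G9} (hPU : P ≤ Cfsg.GU 9 F q)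
    (hP : ActsAbsolutelyIrreducibly (matrixSet P)) (hMP : M ≤ P) (hM2P : M2 ≤ P)
    (hn : ∀ p ∈ P, ∀ x ∈ M, p * x * p⁻¹ ∈ M) (hn2 : ∀ p ∈ P, ∀ x ∈ M2, p * x * p⁻¹ ∈ M2)
    (hna : ∃ a ∈ M, ∃ b ∈ M, a * b ≠ b * a) (hna2 : ∃ a ∈ M2, ∃ b ∈ M2, a * b ≠ b * a)
    (hcomm : ∀ x ∈ M, ∀ y ∈ M2, x * y = y * x) :
    ∃ (e2 : Fin 9 ≃ (Fin 2 → Fin 3)) (P2 : G9) (g1 : (Fin 3 → F) → (Fin 3 → F) → F),
      IsUnitaryFormPow q g1 ∧
      IsTensorPowerFormStructure (fun x : F => x ^ q) (Cfsg.hermForm 9 F q) g1 e2 P2 ∧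
      ∀ h : G9, ((M.map (MulAut.conj h).toMonoidHom = M ∧ M2.map (MulAut.conj h).toMonoidHom = M2) ∨
          (M.map (MulAut.conj h).toMonoidHom = M2 ∧ M2.map (MulAut.conj h).toMonoidHom = M)) →
          h ∈ tensorWreathSubgroup 3 2 e2 P2 := by
  classical
  have h1 : Hyp P M M2 := ⟨Fintype.card_fin 9, hP.1, hn, hna, hna2, hcomm⟩
  have h2 : Hyp P M2 M := ⟨Fintype.card_fin 9, hP.1, hn2, hna2, hna, fun x hx y hy => (hcomm y hy x hx).symm⟩
  obtain ⟨e, Q, A, hirr, hscal, hA, hR⟩ := h1.coords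
  obtain ⟨e', Q', A2, -, -, -, hR2⟩ := h2.coords
  set Θ := theta e Q with hΘ
  have hCR : ∀ X, X ∈ commSet M ↔ InR (Θ X) := by
    refine fun X => ⟨hR X, fun ⟨B, hB⟩ g hg => Θ.injective ?_⟩
    rw [map_mul, map_mul, hB, hA ⟨g, hg⟩, kron_comm]
  have hLC : ∀ X, InL (Θ X) → X ∈ commSet M2 := by
    rintro X ⟨a, ha⟩ g hg
    obtain ⟨B, hB⟩ := (hCR _).mp (h1.mem2 hg)
    refine Θ.injective ?_
    rw [map_mul, map_mul, ha, hB, kron_comm]
  have hCL : ∀ X, X ∈ commSet M2 ↔ InL (Θ X) := by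
    refine fun X => ⟨fun hX => ?_, hLC X⟩
    choose f hf using fun a : M3 => hR2 (Θ.symm (a ⊗ₖ (1 : M3))) (hLC _ ⟨a, by simp⟩)
    have hinj : Function.Injective f := fun a a' he => kron_left_inj (Θ.symm.injective
      ((theta e' Q').injective (by rw [hf, hf, he])))
    obtain ⟨B, hB⟩ := hR2 X hX
    obtain ⟨a, rfl⟩ := (Finite.injective_iff_surjective.mp hinj) B
    exact ⟨a, by rw [(theta e' Q').injective (hB.trans (hf a).symm)]; simp⟩
  let φ : Fin 3 → (Fin 3 → F) →ₗ[F] (Fin 9 → F) := fun j =>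
    { toFun := fun x => (Q : Matrix (Fin 9) (Fin 9) F) *ᵥ
        ((fun p : Fin 3 × Fin 3 => if p.2 = j then x p.1 else 0) ∘ e)
      map_add' := fun x y => by
        rw [← Matrix.mulVec_add]; congr 1; funext i; by_cases h : (e i).2 = j <;> simp [h]
      map_smul' := fun c x => by
        rw [RingHom.id_apply, ← Matrix.mulVec_smul]; congr 1; funext i; by_cases h : (e i).2 = j <;> simp [h] }
  have hass : ∀ v, MaxTensor.assemble φ v =
      (Q : Matrix (Fin 9) (Fin 9) F) *ᵥ ((fun p : Fin 3 × Fin 3 => v p.2 p.1) ∘ e) := fun v => by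
    simp only [MaxTensor.assemble, φ, LinearMap.coe_mk, AddHom.coe_mk, ← Matrix.mulVec_sum]
    congr 1
    funext i
    simp [Finset.sum_apply]
  have hth : ∀ (X : Matrix (Fin 9) (Fin 9) F) (x : Fin 3 × Fin 3 → F),
      X *ᵥ ((Q : Matrix (Fin 9) (Fin 9) F) *ᵥ (x ∘ e)) =
        (Q : Matrix (Fin 9) (Fin 9) F) *ᵥ ((Θ X *ᵥ x) ∘ e) := by
    intro X x
    have : (Θ X *ᵥ x) ∘ e =
        (((Q⁻¹ : G9) : Matrix (Fin 9) (Fin 9) F) * X * (Q : Matrix (Fin 9) (Fin 9) F)) *ᵥ (x ∘ e) := by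
      simp only [hΘ, theta, MulEquiv.coe_mk, Equiv.coe_fn_mk]
      rw [Matrix.reindex_apply, Matrix.submatrix_mulVec_equiv]
      simp [Function.comp_def]
    rw [this, Matrix.mulVec_mulVec, Matrix.mulVec_mulVec, ← mul_assoc, ← mul_assoc, Units.mul_inv, one_mul]
  have hequiv : ∀ j (n : M) x, ((n : G9) : Matrix (Fin 9) (Fin 9) F) *ᵥ φ j x = φ j (A n *ᵥ x) := by
    intro j n x
    simp only [φ, LinearMap.coe_mk, AddHom.coe_mk]
    rw [hth, hA n]
    congr 2
    funext p
    simp [Matrix.mulVec, dotProduct, Fintype.sum_prod_type, Matrix.one_apply]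
  have hQi := Matrix.mulVec_injective_iff_isUnit.mpr Q.isUnit
  have hbij : Function.Bijective (MaxTensor.assemble φ) := by
    refine ⟨fun v w hvw => ?_, fun y => ?_⟩
    · rw [hass, hass] at hvw
      funext j i
      simpa using congrFun (hQi hvw) (e.symm (i, j))
    · refine ⟨fun j i => (((Q⁻¹ : G9) : Matrix (Fin 9) (Fin 9) F) *ᵥ y) (e.symm (i, j)), ?_⟩
      rw [hass]
      simp [Function.comp_def, Matrix.mulVec_mulVec]
  obtain ⟨e₀, P₀, f₁, f₂, hf₁, hf₂, hP₀, hs, hnorm⟩ := tensor_form_coord (Geometry.exists_pow_ne_self hF)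
    (UnitTwoPrime.herm_hermForm hF) (N := M) (fun g hg u v => hPU (hMP hg) u v) (by norm_num) (by norm_num)
    A hirr hscal φ hequiv hbij
  have hPQ : ∀ x : Fin 3 × Fin 3 → F, (P₀ : Matrix (Fin 9) (Fin 9) F) *ᵥ (x ∘ e₀) =
      (Q : Matrix (Fin 9) (Fin 9) F) *ᵥ (x ∘ e) := fun x => by rw [hP₀, hass]
  have hsQ : IsTensorFormStructure (fun x : F => x ^ q) (Cfsg.hermForm 9 F q) f₁ f₂ e Q := by
    obtain ⟨c, hc, h⟩ := hs
    exact ⟨c, hc, fun x y => by rw [← hPQ, ← hPQ]; exact h x y⟩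
  obtain ⟨e2, P2, g1, hg1, hpow, hle, hsw⟩ :=
    wreath_structure_swap hF (hf₁.isUnitaryFormPow hF) (hf₂.isUnitaryFormPow hF) hsQ
  refine ⟨e2, P2, g1, hg1, hpow, fun h hh => ?_⟩
  rcases hh with ⟨hM, -⟩ | ⟨hM, hM2⟩
  · refine hle ?_
    have hmem : h ∈ Subgroup.normalizer (M : Set G9) := by
      rw [Subgroup.mem_normalizer_iff]
      intro x
      constructor
      · intro hx; rw [← hM]; exact ⟨x, hx, rfl⟩
      · intro hx
        rw [← hM] at hx
        obtain ⟨y, hy, hxy⟩ := hx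
        have hxy' : h * y * h⁻¹ = h * x * h⁻¹ := hxy
        exact mul_left_cancel (mul_right_cancel hxy') ▸ hy
    obtain ⟨_, ⟨K, hK, rfl⟩, rfl⟩ := hnorm h hmem
    refine ⟨_, ⟨K, hK, rfl⟩, Units.ext (Matrix.ext_iff_mulVec.2 fun v => ?_)⟩
    obtain ⟨v, rfl⟩ := hbij.2 v
    set x : Fin 3 × Fin 3 → F := fun p => v p.2 p.1 with hx
    have hre : ∀ (e₁ : Fin 9 ≃ Fin 3 × Fin 3) (R : G9),
        ((R * glReindex e₁.symm K * R⁻¹ : G9) : Matrix (Fin 9) (Fin 9) F) *ᵥ
          ((R : Matrix (Fin 9) (Fin 9) F) *ᵥ (x ∘ e₁)) =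
        (R : Matrix (Fin 9) (Fin 9) F) *ᵥ (((K : KK) *ᵥ x) ∘ e₁) := by
      intro e₁ R
      rw [Matrix.mulVec_mulVec, ← Units.val_mul, inv_mul_cancel_right, Units.val_mul, ← Matrix.mulVec_mulVec]
      congr 1
      show Matrix.reindex e₁.symm e₁.symm (K : KK) *ᵥ _ = _
      rw [Matrix.reindex_apply, Equiv.symm_symm, Matrix.submatrix_mulVec_equiv]
      simp [Function.comp_def]
    show ((Q * glReindex e.symm K * Q⁻¹ : G9) : Matrix (Fin 9) (Fin 9) F) *ᵥ _ =
      ((P₀ * glReindex e₀.symm K * P₀⁻¹ : G9) : Matrix (Fin 9) (Fin 9) F) *ᵥ _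
    rw [hass, hre e Q]
    conv_rhs => rw [← hPQ, hre e₀ P₀, hPQ]
  · have hval : ∀ (z : GK), Θ ((Q * glReindex e.symm z * Q⁻¹ : G9) : Matrix (Fin 9) (Fin 9) F) = (z : KK) := by
      intro z
      exact Θ.apply_symm_apply _
    have hsurj : ∀ g : G9, ∃ z : GK, g = Q * glReindex e.symm z * Q⁻¹ := fun g =>
      ⟨(glReindex e.symm).symm (Q⁻¹ * g * Q), by rw [MulEquiv.apply_symm_apply]; group⟩
    refine hsw h (fun a => ?_) (fun b => ?_)
    · obtain ⟨z, hz⟩ := hsurj (h * E1 e Q a * h⁻¹)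
      have hm : ∀ a : G3, ((h * E1 e Q a * h⁻¹ : G9) : Matrix (Fin 9) (Fin 9) F) ∈ commSet M := fun a => by
        rw [Units.val_mul, Units.val_mul]
        exact (commSet_conj hM2 _).mp (hLC _ ⟨(a : M3), by rw [E1, hval, kl_val]⟩)
      obtain ⟨B, hB⟩ := (hCR _).mp (hm a)
      obtain ⟨B', hB'⟩ := (hCR _).mp (hm a⁻¹)
      rw [hz, hval] at hB
      have hinv : h * E1 e Q a⁻¹ * h⁻¹ = Q * glReindex e.symm z⁻¹ * Q⁻¹ := by
        have : h * E1 e Q a⁻¹ * h⁻¹ = (h * E1 e Q a * h⁻¹)⁻¹ := by rw [E1, E1, map_inv, map_inv]; group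
        rw [this, hz, map_inv]; group
      rw [hinv, hval] at hB'
      have hBB : B * B' = 1 := kron_right_inj (by
        rw [Matrix.one_kronecker_one, ← one_mul (1 : M3), Matrix.mul_kronecker_mul, ← hB, ← hB', Units.mul_inv])
      refine ⟨⟨B, B', hBB, mul_eq_one_comm.mp hBB⟩, ?_⟩
      rw [hz, E2]
      congr 3
      exact Units.ext hB
    · obtain ⟨z, hz⟩ := hsurj (h * E2 e Q b * h⁻¹)
      have hm : ∀ b : G3, ((h * E2 e Q b * h⁻¹ : G9) : Matrix (Fin 9) (Fin 9) F) ∈ commSet M2 := fun b => by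
        rw [Units.val_mul, Units.val_mul]
        exact (commSet_conj hM _).mp ((hCR _).mpr ⟨(b : M3), by rw [E2, hval, kr_val]⟩)
      obtain ⟨B, hB⟩ := (hCL _).mp (hm b)
      obtain ⟨B', hB'⟩ := (hCL _).mp (hm b⁻¹)
      rw [hz, hval] at hB
      have hinv : h * E2 e Q b⁻¹ * h⁻¹ = Q * glReindex e.symm z⁻¹ * Q⁻¹ := by
        have : h * E2 e Q b⁻¹ * h⁻¹ = (h * E2 e Q b * h⁻¹)⁻¹ := by rw [E2, E2, map_inv, map_inv]; group
        rw [this, hz, map_inv]; group
      rw [hinv, hval] at hB'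
      have hBB : B * B' = 1 := kron_left_inj (by
        rw [Matrix.one_kronecker_one, ← one_mul (1 : M3), Matrix.mul_kronecker_mul, ← hB, ← hB', Units.mul_inv])
      refine ⟨⟨B, B', hBB, mul_eq_one_comm.mp hBB⟩, ?_⟩
      rw [hz, E1]
      congr 3
      exact Units.ext hB

/-- A decomposition `3 ⊗ 3` of the form lies in a tensor square of the form. -/
theorem wreath_structure (hF : Fintype.card F = q ^ 2) {e : Fin 9 ≃ Fin 3 × Fin 3} {P : G9}
    {f₁ f₂ : (Fin 3 → F) → (Fin 3 → F) → F} (h₁ : IsUnitaryFormPow q f₁) (h₂ : IsUnitaryFormPow q f₂)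
    (hs : IsTensorFormStructure (fun x : F => x ^ q) (Cfsg.hermForm 9 F q) f₁ f₂ e P) :
    ∃ (e2 : Fin 9 ≃ (Fin 2 → Fin 3)) (P2 : G9) (g1 : (Fin 3 → F) → (Fin 3 → F) → F),
      IsUnitaryFormPow q g1 ∧
      IsTensorPowerFormStructure (fun x : F => x ^ q) (Cfsg.hermForm 9 F q) g1 e2 P2 ∧
      tensorProductSubgroup 3 3 e P ≤ tensorWreathSubgroup 3 2 e2 P2 := by
  obtain ⟨e2, P2, g1, h, h', h'', -⟩ := wreath_structure_swap hF h₁ h₂ hs
  exact ⟨e2, P2, g1, h, h', h''⟩

/-- `SU_9(q)` stabilises no tensor square. -/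
theorem not_le_tensorWreath (hF : Fintype.card F = q ^ 2) (e2 : Fin 9 ≃ (Fin 2 → Fin 3)) (P2 : G9) :
    ¬ UnitPrimeDim.omegaU 9 F q ≤ tensorWreathSubgroup 3 2 e2 P2 := by
  classical
  intro hle
  obtain ⟨u, hu0, hu⟩ := Classical.exists_isotropic hF (show 2 ≤ 9 by norm_num)
  obtain ⟨c, hc, hc0⟩ := UnitPrimeDim.exists_skew_ne hF
  obtain ⟨T, hT⟩ := UnitPrimeDim.exists_tv hF u hu c hc
  obtain ⟨_, ⟨s, hsm, rfl⟩, hseq⟩ := hle (UnitPrimeDim.toGU_mem T)
  let ψ : (Fin 9 → F) →ₗ[F] F := c • Classical.hermBilin hF 9 u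
  let emb : ((Fin 2 → Fin 3) → F) →ₗ[F] (Fin 9 → F) :=
    (P2 : Matrix (Fin 9) (Fin 9) F).mulVecLin ∘ₗ (LinearEquiv.funCongrLeft F F e2).toLinearMap
  have hemb : Function.Bijective emb := by
    refine ⟨fun x y h => (LinearEquiv.funCongrLeft F F e2).injective
      (Matrix.mulVec_injective_iff_isUnit.mpr P2.isUnit h), fun v =>
      ⟨(LinearEquiv.funCongrLeft F F e2).symm (((P2⁻¹ : G9) : Matrix (Fin 9) (Fin 9) F) *ᵥ v), ?_⟩⟩
    show (P2 : Matrix (Fin 9) (Fin 9) F) *ᵥ (LinearEquiv.funCongrLeft F F e2 _) = v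
    rw [LinearEquiv.apply_symm_apply, Matrix.mulVec_mulVec, ← Units.val_mul, mul_inv_cancel, Units.val_one,
      Matrix.one_mulVec]
  obtain ⟨U, hUeq⟩ := hemb.2 u
  have hU0 : U ≠ 0 := fun h0 => hu0 (by rw [← hUeq, h0, map_zero])
  let φ : ((Fin 2 → Fin 3) → F) →ₗ[F] F := ψ ∘ₗ emb
  have hact : ∀ x, (s : Matrix (Fin 2 → Fin 3) (Fin 2 → Fin 3) F) *ᵥ x = x + φ x • U := by
    intro x
    refine hemb.1 ?_
    rw [map_add, map_smul, hUeq]
    have h1 := hT (emb x)
    rw [← UnitPrimeDim.toGU_mulVec, ← hseq] at h1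
    refine Eq.trans ?_ h1
    show (P2 : Matrix (Fin 9) (Fin 9) F) *ᵥ (((s : Matrix _ _ F) *ᵥ x) ∘ e2) =
      ((P2 * glReindex e2.symm s * P2⁻¹ : G9) : Matrix (Fin 9) (Fin 9) F) *ᵥ
        ((P2 : Matrix (Fin 9) (Fin 9) F) *ᵥ (x ∘ e2))
    rw [Matrix.mulVec_mulVec, ← Units.val_mul, inv_mul_cancel_right, Units.val_mul, ← Matrix.mulVec_mulVec]
    congr 1
    show _ = Matrix.reindex e2.symm e2.symm (s : Matrix _ _ F) *ᵥ _
    rw [Matrix.reindex_apply, Equiv.symm_symm, Matrix.submatrix_mulVec_equiv]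
    simp [Function.comp_def]
  have hφ0 : φ ≠ 0 := fun h0 => by
    obtain ⟨y, hy, -⟩ := Classical.exists_partner hF hu0 hu
    obtain ⟨x, rfl⟩ := hemb.2 y
    have := LinearMap.congr_fun h0 x
    simp only [φ, ψ, LinearMap.comp_apply, LinearMap.smul_apply, hy, smul_eq_mul, mul_one,
      LinearMap.zero_apply] at this
    exact hc0 this
  let pr : (Fin 3 → F) →ₗ[F] (Fin 3 → F) →ₗ[F] ((Fin 2 → Fin 3) → F) :=
    LinearMap.mk₂ F (fun u w a => u (a 0) * w (a 1)) (fun _ _ _ => by funext a; simp [add_mul])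
      (fun _ _ _ => by funext a; simp [mul_assoc]) (fun _ _ _ => by funext a; simp [mul_add])
      (fun _ _ _ => by funext a; simp [mul_left_comm])
  let M : (Fin 3 → F) →ₗ[F] (Fin 3 → F) := (Matrix.of fun i j => U ![i, j] : M3).mulVecLin
  let M' : (Fin 3 → F) →ₗ[F] (Fin 3 → F) := (Matrix.of fun i j => U ![j, i] : M3).mulVecLin
  have hgood : ∀ a b, φ (pr a b) ≠ 0 → (LinearMap.range M ≠ ⊤ ∧ LinearMap.range M' ≠ ⊤) ∧
      (a ∈ LinearMap.range M ∨ b ∈ LinearMap.range M') := by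
    intro a b hab
    obtain ⟨a', b', hp⟩ := LinNine.pure_mem hsm (x := pr a b) ⟨a, b, fun _ => rfl⟩
    set t := φ (pr a b) with ht
    rw [hact, ← ht] at hp
    have hUv : ∀ i j, U ![i, j] = t⁻¹ * (a' i * b' j - a i * b j) := fun i j => by
      have h := hp ![i, j]
      simp [pr] at h
      rw [eq_inv_mul_iff_mul_eq₀ hab]
      linear_combination h
    have hM : ∀ z, M z = t⁻¹ • ((b' ⬝ᵥ z) • a' - (b ⬝ᵥ z) • a) := by
      intro z; funext i
      simp [M, Matrix.mulVec, dotProduct, hUv, Finset.mul_sum, Finset.sum_mul, mul_sub, sub_mul,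
        Finset.sum_sub_distrib, mul_assoc, mul_comm, mul_left_comm]
    have hM' : ∀ z, M' z = t⁻¹ • ((a' ⬝ᵥ z) • b' - (a ⬝ᵥ z) • b) := by
      intro z; funext i
      simp [M', Matrix.mulVec, dotProduct, hUv, Finset.mul_sum, Finset.sum_mul, mul_sub, sub_mul,
        Finset.sum_sub_distrib, mul_assoc, mul_comm, mul_left_comm]
    have hsmall : ∀ (N : (Fin 3 → F) →ₗ[F] (Fin 3 → F)) (p r : Fin 3 → F),
        (∀ z, N z ∈ Submodule.span F ({p, r} : Set (Fin 3 → F))) → LinearMap.range N ≠ ⊤ := by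
      intro N p r hN htop
      have h1 : Module.finrank F (Submodule.span F ({p, r} : Set (Fin 3 → F))) ≤ 2 :=
        (finrank_span_le_card _).trans (by rw [Set.toFinset_insert, Set.toFinset_singleton]; exact Finset.card_le_two)
      have h2 := Submodule.finrank_mono
        (show LinearMap.range N ≤ Submodule.span F ({p, r} : Set (Fin 3 → F)) by
          rintro _ ⟨z, rfl⟩; exact hN z)
      rw [htop, finrank_top, Module.finrank_fin_fun] at h2
      omega
    refine ⟨⟨hsmall M a' a fun z => ?_, hsmall M' b' b fun z => ?_⟩, ?_⟩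
    · rw [hM]
      exact Submodule.smul_mem _ _ (Submodule.sub_mem _
        (Submodule.smul_mem _ _ (Submodule.subset_span (by simp)))
        (Submodule.smul_mem _ _ (Submodule.subset_span (by simp))))
    · rw [hM']
      exact Submodule.smul_mem _ _ (Submodule.sub_mem _
        (Submodule.smul_mem _ _ (Submodule.subset_span (by simp)))
        (Submodule.smul_mem _ _ (Submodule.subset_span (by simp))))
    by_cases hz : ∃ z, b' ⬝ᵥ z = 0 ∧ b ⬝ᵥ z ≠ 0
    · obtain ⟨z, hz0, hz1⟩ := hz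
      refine Or.inl ⟨(-t / (b ⬝ᵥ z)) • z, ?_⟩
      rw [map_smul, hM, hz0, zero_smul, zero_sub, smul_neg, ← neg_smul, smul_smul, smul_smul]
      convert one_smul F a using 2
      field_simp
    push Not at hz
    by_cases hb' : b' = 0
    · have hb : b = 0 := funext fun i => by simpa using hz (Pi.single i 1) (by simp [hb'])
      exact absurd (by simp [ht, hb] : t = 0) hab
    obtain ⟨k, hk⟩ := Function.ne_iff.mp hb'
    set lam := b k / b' k with hlam
    have hb : b = lam • b' := funext fun i => by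
      have h := hz (b' k • Pi.single i (1 : F) - b' i • Pi.single k (1 : F))
        (by simp [dotProduct_sub, mul_comm])
      simp [dotProduct_sub] at h
      have hk' : b' k ≠ 0 := hk
      show b i = b k / b' k * b' i
      rw [div_mul_eq_mul_div, eq_div_iff hk']
      linear_combination h
    have hd : a' - lam • a ≠ 0 := by
      intro h0
      refine hU0 (funext fun p => ?_)
      have h := hUv (p 0) (p 1)
      have h' := congrFun h0 (p 0)
      simp at h'
      rw [show (![p 0, p 1] : Fin 2 → Fin 3) = p from funext fun i => by fin_cases i <;> rfl, hb] at h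
      rw [h]
      simp only [Pi.smul_apply, smul_eq_mul, Pi.zero_apply]
      rw [show a' (p 0) = lam * a (p 0) from sub_eq_zero.mp h']
      ring
    obtain ⟨i, hi⟩ := Function.ne_iff.mp hd
    refine Or.inr ⟨(lam * t / (a' i - lam * a i)) • Pi.single i 1, ?_⟩
    have hne : a' i - lam * a i ≠ 0 := by simpa using hi
    rw [map_smul, hM', hb]
    funext j
    simp
    field_simp
  refine hφ0 ?_
  have hzero : ∀ a b, φ (pr a b) = 0 := by
    by_contra hne
    push Not at hne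
    obtain ⟨a₀, b₀, h0⟩ := hne
    obtain ⟨⟨hC, hR⟩, -⟩ := hgood a₀ b₀ h0
    obtain ⟨ca, hca⟩ : ∃ v, v ∉ LinearMap.range M := by
      by_contra h; push Not at h; exact hC (Submodule.eq_top_iff'.mpr h)
    obtain ⟨cb, hcb⟩ : ∃ v, v ∉ LinearMap.range M' := by
      by_contra h; push Not at h; exact hR (Submodule.eq_top_iff'.mpr h)
    have hout : ∀ a b, a ∉ LinearMap.range M → b ∉ LinearMap.range M' → φ (pr a b) = 0 := fun a b ha hb => by
      by_contra h
      rcases (hgood a b h).2 with h' | h'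
      · exact ha h'
      · exact hb h'
    have hout' : ∀ a b, b ∉ LinearMap.range M' → φ (pr a b) = 0 := by
      intro a b hb
      by_cases ha : a ∈ LinearMap.range M
      · have h1 := hout (a + ca) b (fun h => hca (by simpa using Submodule.sub_mem _ h ha)) hb
        rw [map_add, LinearMap.add_apply, map_add, hout ca b hca hb, add_zero] at h1
        exact h1
      · exact hout a b ha hb
    refine h0 ?_
    by_cases hb : b₀ ∈ LinearMap.range M'
    · have h1 := hout' a₀ (b₀ + cb) (fun h => hcb (by simpa using Submodule.sub_mem _ h hb))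
      rw [map_add, map_add, hout' a₀ cb hcb, add_zero] at h1
      exact h1
    · exact hout' a₀ b₀ hb
  refine LinearMap.ext fun x => ?_
  rw [pi_eq_sum_univ' x, map_sum, LinearMap.zero_apply]
  refine Finset.sum_eq_zero fun p _ => ?_
  have hp : (Pi.single p (1 : F) : (Fin 2 → Fin 3) → F) = pr (Pi.single (p 0) 1) (Pi.single (p 1) 1) := by
    funext a
    simp only [pr, LinearMap.mk₂_apply, Pi.single_apply]
    by_cases h : a = p
    · simp [h]
    · rw [if_neg h]
      have : a 0 ≠ p 0 ∨ a 1 ≠ p 1 := by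
        by_contra hcn
        push Not at hcn
        exact h (funext fun i => by fin_cases i <;> simp [hcn.1, hcn.2])
      rcases this with h' | h' <;> simp [h']
  rw [map_smul, hp, hzero, smul_zero]

end Cfsg.Agent.Lib.UnitNine
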